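import Cfsg.Agent.Lib.PrimeHalfTwin.Orbits
import Mathlib.GroupTheory.SpecificGroups.Alternating

/-!
# Five-fold transitive groups of degree `2r + 3` and `3r + 4`
-/

set_option autoImplicit false

namespace Cfsg.Agent.Lib.PrimeHalfTwin

open MulAction

variable {G Ω : Type*} [Group G] [MulAction G Ω] [Finite G] [Fintype Ω] [DecidableEq Ω]
  [FaithfulSMul G Ω] {r : ℕ} [hr : Fact r.Prime]

omit [FaithfulSMul G Ω] [Finite G] in
theorem isPreprimitive_range (hG : IsPreprimitive G Ω) :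
    IsPreprimitive (MulAction.toPermHom G Ω).range Ω := by
  let f : Ω →ₑ[(MulAction.toPermHom G Ω).rangeRestrict] Ω :=
    { toFun := id, map_smul' := fun _ _ => rfl }
  exact IsPreprimitive.of_surjective (f := f) Function.surjective_id

omit [FaithfulSMul G Ω] [Finite G] in
theorem alternating_le_of_threeCycle (hG : IsPreprimitive G Ω) {g : G}
    (h3 : (MulAction.toPermHom G Ω g).IsThreeCycle) :
    alternatingGroup Ω ≤ (MulAction.toPermHom G Ω).range :=
  Equiv.Perm.alternatingGroup_le_of_isPreprimitive_of_isThreeCycle_mem (isPreprimitive_range hG) h3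
    ⟨g, rfl⟩

omit [Finite G] in
/-- The commutator of two elements acting as powers on an element centralises it. -/
theorem commutator_commute {n₁ n₂ y : G} {s t : ℕ} (h1 : n₁ * y * n₁⁻¹ = y ^ s)
    (h2 : n₂ * y * n₂⁻¹ = y ^ t) : (n₁⁻¹ * n₂⁻¹ * n₁ * n₂) * y = y * (n₁⁻¹ * n₂⁻¹ * n₁ * n₂) := by
  have e1 : MulAut.conj n₁ y = y ^ s := h1
  have e2 : MulAut.conj n₂ y = y ^ t := h2
  have h12 : MulAut.conj (n₁ * n₂) y = MulAut.conj (n₂ * n₁) y := by
    rw [map_mul, map_mul, MulAut.mul_apply, MulAut.mul_apply, e2, map_pow, e1, map_pow, e2,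
      ← pow_mul, ← pow_mul, mul_comm]
  have h3 : MulAut.conj (n₁⁻¹ * n₂⁻¹ * n₁ * n₂) y = y := by
    rw [show n₁⁻¹ * n₂⁻¹ * n₁ * n₂ = (n₂ * n₁)⁻¹ * (n₁ * n₂) by group, map_mul, MulAut.mul_apply, h12,
      ← MulAut.mul_apply, ← map_mul, inv_mul_cancel, map_one, MulAut.one_apply]
  rw [MulAut.conj_apply, mul_inv_eq_iff_eq_mul] at h3
  exact h3

/-- Degree `2r + 3`. -/
theorem alternating_le_three (hr5 : 5 ≤ r) (hcard : Nat.card Ω = 3 + 2 * r)
    (hG : IsMultiplyPretransitive G Ω 5) : alternatingGroup Ω ≤ (MulAction.toPermHom G Ω).range := by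
  classical
  have hcard' : Fintype.card Ω = 3 + 2 * r := by rw [← Nat.card_eq_fintype_card, hcard]
  have hle : ∀ j ≤ 5, IsMultiplyPretransitive G Ω j := fun j hj =>
    isMultiplyPretransitive_of_le' hj (by
      rw [ENat.card_eq_coe_natCard, hcard]; exact_mod_cast (show 5 ≤ 3 + 2 * r by omega))
  have hprim := isPreprimitive_of_is_two_pretransitive (hle 2 (by norm_num))
  let a : Fin 3 ↪ Ω := Fin.castLEEmb (show 3 ≤ Fintype.card Ω by omega) |>.trans (Fintype.equivFin Ω).symm.toEmbedding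
  obtain ⟨R, h⟩ := exists_rig (G := G) (r := r) hcard two_pos (by omega) (hle 4 (by norm_num)) a
  obtain ⟨z₁, hz₁⟩ : ∃ z, z ∉ Set.range a := by
    by_contra! hall
    have h1 := Set.ncard_range_of_injective a.injective
    rw [Set.eq_univ_of_forall hall, Set.ncard_univ, Nat.card_fin, hcard] at h1
    omega
  obtain ⟨y, hy, hyz⟩ : ∃ y ∈ R, y • z₁ ≠ z₁ := by
    by_contra! hall
    have h1 := h.orbit_card z₁ hz₁
    rw [show orbit R z₁ = {z₁} from Set.eq_singleton_iff_unique_mem.mpr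
      ⟨mem_orbit_self _, by rintro _ ⟨g, rfl⟩; exact hall g g.2⟩, Set.ncard_singleton] at h1
    omega
  by_cases hbad : ∃ x ∈ R, x ≠ 1 ∧ x • z₁ = z₁
  · obtain ⟨x, hx, hx1, hxz⟩ := hbad
    let T : Finset Ω := Finset.univ.filter fun w => w ∉ Set.range a ∧ w ∉ orbit R z₁
    refine alternating_le_of_small_support hprim (by omega) (by omega) (h.pow_eq_one hx) hx1 (T := T) ?_ ?_
    · have hdisj : Disjoint (Set.range a) (orbit R z₁) := Set.disjoint_left.mpr fun w hw hw' => by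
        obtain ⟨i, rfl⟩ := hw
        obtain ⟨g, hg⟩ := hw'
        exact hz₁ ⟨i, smul_left_cancel (g : G) ((h.fixed g g.2 i).trans hg.symm)⟩
      have : (T : Set Ω) = (Set.range a ∪ orbit R z₁)ᶜ := by ext w; simp [T]
      rw [← Set.ncard_coe_finset, this, Set.ncard_compl, Set.ncard_union_eq hdisj,
        Set.ncard_range_of_injective a.injective, Nat.card_fin, h.orbit_card z₁ hz₁, hcard]
      omega
    · intro w hw
      simp only [T, Finset.mem_filter, Finset.mem_univ, true_and, not_and_or, not_not] at hw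
      rcases hw with ⟨i, rfl⟩ | hw
      · exact h.fixed x hx i
      · exact h.fix_orbit hx hxz hw
  push Not at hbad
  have hgen : ∀ x ∈ R, ∃ n : ℕ, x = y ^ n := fun x hx => by
    obtain ⟨n, hn⟩ := h.exists_adjust hz₁ hy hyz hx
    refine ⟨n, ?_⟩
    by_contra hne
    exact hbad _ (mul_mem (inv_mem (pow_mem hy n)) hx) (fun e => hne (inv_mul_eq_one.mp e).symm) hn
  obtain ⟨n₁, hn₁, hπ₁⟩ := h.witt (Equiv.swap 0 1)
  obtain ⟨n₂, hn₂, hπ₂⟩ := h.witt (Equiv.swap 1 2)
  obtain ⟨s, hs⟩ := hgen _ ((Subgroup.mem_normalizer_iff.mp hn₁ y).mp hy)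
  obtain ⟨t, ht⟩ := hgen _ ((Subgroup.mem_normalizer_iff.mp hn₂ y).mp hy)
  set c := n₁⁻¹ * n₂⁻¹ * n₁ * n₂
  have hcN : c ∈ Subgroup.normalizer (R : Set G) :=
    mul_mem (mul_mem (mul_mem (inv_mem hn₁) (inv_mem hn₂)) hn₁) hn₂
  have hcy : c * y = y * c := commutator_commute hs ht
  have hc : ∀ x ∈ R, c * x = x * c := fun x hx => by
    obtain ⟨n, rfl⟩ := hgen x hx
    exact (Commute.pow_right hcy n : Commute c (y ^ n))
  let π : Equiv.Perm (Fin 3) := (Equiv.swap 0 1)⁻¹ * (Equiv.swap 1 2)⁻¹ * Equiv.swap 0 1 * Equiv.swap 1 2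
  have hinv : ∀ {n : G} {σ : Equiv.Perm (Fin 3)}, (∀ i, n • a i = a (σ i)) → ∀ i, n⁻¹ • a i = a (σ⁻¹ i) :=
    fun hn i => by rw [inv_smul_eq_iff, hn]; simp
  have hπ : ∀ i, c • a i = a (π i) := fun i => by
    simp only [c, π, mul_smul, hinv hπ₂, hinv hπ₁, hπ₁, hπ₂, Equiv.Perm.mul_apply]
  have hπn : ∀ (n : ℕ) i, c ^ n • a i = a ((π ^ n) i) := by
    intro n
    induction n with
    | zero => simp
    | succ n ih => intro i; rw [pow_succ, mul_smul, hπ, ih, pow_succ]; rfl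
  have hout : ∀ z, z ∉ Set.range a → c ^ (2 * r) • z = z := by
    intro z hz
    obtain ⟨d, hd0, hd2, hd⟩ := h.exists_pow_orbit hcard hcN hπ hz
    have hfix := h.pow_fix_of_comm (c := c ^ d) (fun x hx => (Commute.pow_left (hc x hx) d)) hd
    obtain ⟨e, he⟩ : d ∣ 2 := by interval_cases d <;> norm_num
    rw [show 2 * r = (d * r) * e by rw [he]; ring, pow_mul, pow_mul]
    exact mem_stabilizer_iff.mp (pow_mem (mem_stabilizer_iff.mpr hfix) e)
  have hin : ∀ i, c ^ (2 * r) • a i ≠ a i := by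
    intro i hi
    rw [hπn] at hi
    have h3 : π ^ 3 = 1 := Equiv.ext (by decide)
    rw [← Nat.div_add_mod (2 * r) 3, pow_add, pow_mul, h3, one_pow, one_mul] at hi
    have hr3 : ¬ 3 ∣ r := fun hd => by
      rcases hr.out.eq_one_or_self_of_dvd 3 hd with h' | h' <;> omega
    have hcases : 2 * r % 3 = 1 ∨ 2 * r % 3 = 2 := by omega
    have h1 : ∀ i, (π ^ 1) i ≠ i ∧ (π ^ 2) i ≠ i := by decide
    rcases hcases with h' | h' <;> rw [h'] at hi
    · exact (h1 i).1 (a.injective hi)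
    · exact (h1 i).2 (a.injective hi)
  refine alternating_le_of_threeCycle hprim (g := c ^ (2 * r)) (card_support_eq_three_iff.mp ?_)
  have : (MulAction.toPermHom G Ω (c ^ (2 * r))).support = Finset.univ.map a := by
    ext w
    rw [Equiv.Perm.mem_support, Finset.mem_map]
    constructor
    · intro hw
      by_contra hw'
      exact hw (hout w fun ⟨i, hi⟩ => hw' ⟨i, Finset.mem_univ _, hi⟩)
    · rintro ⟨i, -, rfl⟩
      exact hin i
  rw [this, Finset.card_map, Finset.card_univ, Fintype.card_fin]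

set_option maxRecDepth 8000 in
/-- Degree `3r + 4`. -/
theorem alternating_le_four (hr5 : 5 ≤ r) (hcard : Nat.card Ω = 4 + 3 * r)
    (hG : IsMultiplyPretransitive G Ω 5) : alternatingGroup Ω ≤ (MulAction.toPermHom G Ω).range := by
  classical
  have hcard' : Fintype.card Ω = 4 + 3 * r := by rw [← Nat.card_eq_fintype_card, hcard]
  have hle : ∀ j ≤ 5, IsMultiplyPretransitive G Ω j := fun j hj =>
    isMultiplyPretransitive_of_le' hj (by
      rw [ENat.card_eq_coe_natCard, hcard]; exact_mod_cast (show 5 ≤ 4 + 3 * r by omega))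
  have hprim := isPreprimitive_of_is_two_pretransitive (hle 2 (by norm_num))
  let a : Fin 4 ↪ Ω := Fin.castLEEmb (show 4 ≤ Fintype.card Ω by omega) |>.trans (Fintype.equivFin Ω).symm.toEmbedding
  obtain ⟨R, h⟩ := exists_rig (G := G) (r := r) hcard (by norm_num) (by omega) hG a
  -- a non-trivial element fixing two orbits is a cycle
  by_cases hbad : ∃ x ∈ R, x ≠ 1 ∧ ∃ u v, u ∉ Set.range a ∧ v ∉ Set.range a ∧ v ∉ orbit R u ∧
      x • u = u ∧ x • v = v
  · obtain ⟨x, hx, hx1, u, v, hu, hv, huv, hxu, hxv⟩ := hbad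
    let T : Finset Ω := Finset.univ.filter fun w =>
      w ∉ Set.range a ∧ w ∉ orbit R u ∧ w ∉ orbit R v
    refine alternating_le_of_small_support hprim (by omega) (by omega) (h.pow_eq_one hx) hx1 (T := T) ?_ ?_
    · have hdisj : ∀ w, w ∉ Set.range a → Disjoint (Set.range a) (orbit R w) := fun w hw =>
        Set.disjoint_left.mpr fun z hz hz' => by
          obtain ⟨i, rfl⟩ := hz
          obtain ⟨g, hg⟩ := hz'
          exact hw ⟨i, smul_left_cancel (g : G) ((h.fixed g g.2 i).trans hg.symm)⟩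
      have hd2 : Disjoint (orbit R u) (orbit R v) := Set.disjoint_left.mpr fun w h1 h2 =>
        huv (by rw [← orbit_eq_iff.mpr h1, orbit_eq_iff.mpr h2]; exact mem_orbit_self v)
      have : (T : Set Ω) = (Set.range a ∪ (orbit R u ∪ orbit R v))ᶜ := by ext w; simp [T]
      rw [← Set.ncard_coe_finset, this, Set.ncard_compl,
        Set.ncard_union_eq (Set.disjoint_union_right.mpr ⟨hdisj u hu, hdisj v hv⟩),
        Set.ncard_union_eq hd2, Set.ncard_range_of_injective a.injective, Nat.card_fin,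
        h.orbit_card u hu, h.orbit_card v hv, hcard]
      omega
    · intro w hw
      simp only [T, Finset.mem_filter, Finset.mem_univ, true_and, not_and_or, not_not] at hw
      rcases hw with ⟨i, rfl⟩ | hw | hw
      · exact h.fixed x hx i
      · exact h.fix_orbit hx hxu hw
      · exact h.fix_orbit hx hxv hw
  push Not at hbad
  have htwo : ∀ x ∈ R, ∀ u v, u ∉ Set.range a → v ∉ Set.range a → v ∉ orbit R u →
      x • u = u → x • v = v → x = 1 := fun x hx u v hu hv huv hxu hxv =>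
    by_contra fun hx1 => hbad x hx hx1 u v hu hv huv hxu hxv
  obtain ⟨nq, hnq, hπq⟩ := h.witt (finRotate 4)
  obtain ⟨g, hgN, hπg⟩ := h.witt (Equiv.swap 0 1 * Equiv.swap 1 2)
  set m := nq ^ 6
  have hmN : m ∈ Subgroup.normalizer (R : Set G) := pow_mem hnq 6
  have horb : ∀ z, z ∉ Set.range a → m • z ∈ orbit R z := by
    intro z hz
    obtain ⟨d, hd0, hd3, hd⟩ := h.exists_pow_orbit hcard hnq hπq hz
    have hrep : ∀ e : ℕ, (nq ^ d) ^ e • z ∈ orbit R z := by
      intro e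
      induction e with
      | zero => simpa using mem_orbit_self z
      | succ e ih =>
        have h1 := h.smul_orbit (pow_mem hnq d) ih
        rw [← mul_smul, ← pow_succ'] at h1
        rwa [orbit_eq_iff.mpr hd] at h1
    obtain ⟨e, he⟩ : d ∣ 6 := by interval_cases d <;> norm_num
    show nq ^ 6 • z ∈ orbit R z
    rw [he, pow_mul]
    exact hrep e
  -- `m` acts on `R` as a scalar
  have hscalar : ∃ l : ℕ, ∀ x ∈ R, m * x * m⁻¹ = x ^ l := by
    obtain ⟨u, hu⟩ : ∃ z, z ∉ Set.range a := by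
      by_contra! hall
      have h1 := Set.ncard_range_of_injective a.injective
      rw [Set.eq_univ_of_forall hall, Set.ncard_univ, Nat.card_fin, hcard] at h1
      omega
    have hmove : ∀ z, z ∉ Set.range a → ∃ y ∈ R, y • z ≠ z := fun z hz => by
      by_contra! hall
      have h1 := h.orbit_card z hz
      rw [show orbit R z = {z} from Set.eq_singleton_iff_unique_mem.mpr
        ⟨mem_orbit_self _, by rintro _ ⟨g, rfl⟩; exact hall g g.2⟩, Set.ncard_singleton] at h1
      omega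
    have hmfix : ∀ x ∈ R, ∀ z, z ∉ Set.range a → x • z = z → (m * x * m⁻¹) • z = z := by
      intro x hx z hz hxz
      have hconj := (Subgroup.mem_normalizer_iff.mp hmN x).mp hx
      refine h.fix_orbit (z := m • z) hconj ?_ (mem_orbit_symm.mp (horb z hz))
      rw [mul_smul, inv_smul_smul, mul_smul, hxz]
    have hconjR : ∀ x ∈ R, m * x * m⁻¹ ∈ R := fun x hx => (Subgroup.mem_normalizer_iff.mp hmN x).mp hx
    have hsmall : ∀ y ∈ R, ∀ z, z ∉ Set.range a → y • z ≠ z → ∀ w, w ∉ Set.range a → z ∉ orbit R w →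
        y • w = w → ∀ x ∈ R, x • w = w → ∃ n : ℕ, x = y ^ n := by
      intro y hy z hz hyz w hw hzw hyw x hx hxw
      obtain ⟨n, hn⟩ := h.exists_adjust hz hy hyz hx
      refine ⟨n, (inv_mul_eq_one.mp (htwo _ (mul_mem (inv_mem (pow_mem hy n)) hx) w z hw hz hzw ?_ hn)).symm⟩
      rw [mul_smul, hxw, inv_smul_eq_iff]
      exact (mem_stabilizer_iff.mp (pow_mem (mem_stabilizer_iff.mpr hyw) n)).symm
    by_cases hone : ∀ x ∈ R, ∀ z, z ∉ Set.range a → x • z = z → x = 1
    · -- cyclic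
      obtain ⟨y, hy, hyu⟩ := hmove u hu
      have hgen : ∀ x ∈ R, ∃ n : ℕ, x = y ^ n := fun x hx => by
        obtain ⟨n, hn⟩ := h.exists_adjust hu hy hyu hx
        exact ⟨n, (inv_mul_eq_one.mp (hone _ (mul_mem (inv_mem (pow_mem hy n)) hx) u hu hn)).symm⟩
      obtain ⟨l, hl⟩ := hgen _ (hconjR y hy)
      refine ⟨l, fun x hx => ?_⟩
      obtain ⟨n, rfl⟩ := hgen x hx
      rw [← MulAut.conj_apply, map_pow, MulAut.conj_apply, hl, ← pow_mul, ← pow_mul, mul_comm]
    push Not at hone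
    obtain ⟨y, hy, z₁, hz₁, hyz₁, hy1⟩ := hone
    obtain ⟨z₂, hz₂, hyz₂⟩ : ∃ z, z ∉ Set.range a ∧ y • z ≠ z := by
      by_contra! hall
      refine hy1 (eq_of_smul_eq_smul fun w : Ω => ?_)
      rw [one_smul]
      by_cases hw : w ∈ Set.range a
      · obtain ⟨i, rfl⟩ := hw; exact h.fixed y hy i
      · exact hall w hw
    have h21 : z₂ ∉ orbit R z₁ := fun hmem => hyz₂ (h.fix_orbit hy hyz₁ hmem)
    obtain ⟨x₁, hx₁, hx₁z⟩ := hmove z₁ hz₁
    obtain ⟨n, hn⟩ := h.exists_adjust hz₂ hy hyz₂ hx₁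
    set z := (y ^ n)⁻¹ * x₁
    have hzR : z ∈ R := mul_mem (inv_mem (pow_mem hy n)) hx₁
    have hzz₁ : z • z₁ ≠ z₁ := fun e => hx₁z (by
      have h1 : y ^ n • z₁ = z₁ := mem_stabilizer_iff.mp (pow_mem (mem_stabilizer_iff.mpr hyz₁) n)
      rw [show z • z₁ = (y ^ n)⁻¹ • x₁ • z₁ from mul_smul _ _ _, inv_smul_eq_iff, h1] at e
      exact e)
    have hzz₂ : z • z₂ = z₂ := hn
    have h12 : z₁ ∉ orbit R z₂ := fun hmem => h21 (mem_orbit_symm.mp hmem)
    have hgenK₁ := hsmall y hy z₂ hz₂ hyz₂ z₁ hz₁ h21 hyz₁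
    have hgenK₂ := hsmall z hzR z₁ hz₁ hzz₁ z₂ hz₂ h12 hzz₂
    obtain ⟨l, hl⟩ := hgenK₁ _ (hconjR y hy) (hmfix y hy z₁ hz₁ hyz₁)
    obtain ⟨μ, hμ⟩ := hgenK₂ _ (hconjR z hzR) (hmfix z hzR z₂ hz₂ hzz₂)
    -- a third orbit
    obtain ⟨z₃, hz₃, hzz₃, h31⟩ : ∃ w, w ∉ Set.range a ∧ z • w ≠ w ∧ w ∉ orbit R z₁ := by
      by_contra! hall
      -- otherwise `z` moves one orbit only
      by_cases h3 : ∃ w, w ∉ Set.range a ∧ w ∉ orbit R z₁ ∧ w ∉ orbit R z₂
      · obtain ⟨w, hw, hw1, hw2⟩ := h3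
        have hzw : z • w = w := by
          by_contra hne
          exact hw1 (hall w hw hne)
        have := htwo z hzR z₂ w hz₂ hw hw2 hzz₂ hzw
        rw [this, one_smul] at hzz₁
        exact hzz₁ rfl
      push Not at h3
      have hsub : (Set.univ : Set Ω) ⊆ Set.range a ∪ (orbit R z₁ ∪ orbit R z₂) := fun w _ => by
        by_cases hw : w ∈ Set.range a
        · exact Or.inl hw
        by_cases hw1 : w ∈ orbit R z₁
        · exact Or.inr (Or.inl hw1)
        exact Or.inr (Or.inr (h3 w hw hw1))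
      have h1 := Set.ncard_le_ncard hsub (Set.toFinite _)
      have h2 := Set.ncard_union_le (Set.range a) (orbit R z₁ ∪ orbit R z₂)
      have h4 := Set.ncard_union_le (orbit R z₁) (orbit R z₂)
      rw [Set.ncard_univ, hcard] at h1
      rw [Set.ncard_range_of_injective a.injective, Nat.card_fin] at h2
      rw [h.orbit_card z₁ hz₁, h.orbit_card z₂ hz₂] at h4
      omega
    have hyz₃ : y • z₃ ≠ z₃ := fun e => hy1 (htwo y hy z₁ z₃ hz₁ hz₃ h31 hyz₁ e)
    obtain ⟨j, hj⟩ := h.exists_adjust hz₃ hy hyz₃ hzR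
    set w := (y ^ j)⁻¹ * z
    have hwR : w ∈ R := mul_mem (inv_mem (pow_mem hy j)) hzR
    have hzw : z = y ^ j * w := (mul_inv_cancel_left _ _).symm
    have hpowfix : ∀ (x : G) (e : ℕ), x • z₃ = z₃ → x ^ e • z₃ = z₃ := fun x e hx =>
      mem_stabilizer_iff.mp (pow_mem (mem_stabilizer_iff.mpr hx) e)
    have hzl : z ^ μ = z ^ l := by
      have e1 : m * z * m⁻¹ = (y ^ j) ^ l * (m * w * m⁻¹) := by
        rw [← pow_mul, mul_comm j l, pow_mul, ← hl, conj_pow, hzw]
        group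
      have e2 : (z ^ μ) • z₃ = (y ^ j) ^ l • z₃ := by
        rw [← hμ, e1, mul_smul, hmfix w hwR z₃ hz₃ hj]
      have e3 : (z ^ l) • z₃ = (y ^ j) ^ l • z₃ := by
        rw [hzw, (Commute.mul_pow (h.comm (pow_mem hy j) hwR : Commute (y ^ j) w) l), mul_smul,
          hpowfix w l hj]
      have hz3' : ((z ^ l)⁻¹ * z ^ μ) • z₃ = z₃ := by
        rw [mul_smul, e2, ← e3, inv_smul_smul]
      refine (inv_mul_eq_one.mp (htwo _ (mul_mem (inv_mem (pow_mem hzR l)) (pow_mem hzR μ)) z₂ z₃ hz₂ hz₃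
        (fun hmem => hzz₃ (h.fix_orbit hzR hzz₂ hmem)) ?_ hz3')).symm
      have h2' : ∀ e : ℕ, z ^ e • z₂ = z₂ := fun e =>
        mem_stabilizer_iff.mp (pow_mem (mem_stabilizer_iff.mpr hzz₂) e)
      rw [mul_smul, h2', inv_smul_eq_iff, h2']
    refine ⟨l, fun x hx => ?_⟩
    obtain ⟨i, hi⟩ := h.exists_adjust hz₂ hy hyz₂ hx
    obtain ⟨j', hj'⟩ := hgenK₂ _ (mul_mem (inv_mem (pow_mem hy i)) hx) hi
    have hx' : x = y ^ i * z ^ j' := by rw [← hj', mul_inv_cancel_left]
    rw [hx', (Commute.mul_pow (h.comm (pow_mem hy i) (pow_mem hzR j') : Commute (y ^ i) (z ^ j')) l),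
      ← MulAut.conj_apply, map_mul, map_pow (MulAut.conj m) y, map_pow (MulAut.conj m) z,
      MulAut.conj_apply, MulAut.conj_apply, hl, hμ, hzl,
      ← pow_mul, ← pow_mul, ← pow_mul, ← pow_mul, mul_comm l i, mul_comm l j']
  obtain ⟨l, hl⟩ := hscalar
  set c := g * m * g⁻¹ * m⁻¹
  have hc : ∀ x ∈ R, c * x = x * c := by
    intro x hx
    have hx2 := (Subgroup.mem_normalizer_iff.mp (inv_mem hgN) x).mp hx
    have h1 : MulAut.conj (g * m * g⁻¹) x = x ^ l := by
      have h2 := hl _ hx2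
      rw [inv_inv] at h2
      calc MulAut.conj (g * m * g⁻¹) x = g * (m * (g⁻¹ * x * g) * m⁻¹) * g⁻¹ := by
            rw [MulAut.conj_apply]; group
        _ = g * (g⁻¹ * x * g) ^ l * g⁻¹ := by rw [h2]
        _ = x ^ l := by rw [← conj_pow]; group
    have hmx : MulAut.conj m⁻¹ x ∈ R := by
      simpa using (Subgroup.mem_normalizer_iff.mp (inv_mem hmN) x).mp hx
    have h3 : MulAut.conj m (MulAut.conj m⁻¹ x) = x := by
      rw [← MulAut.mul_apply, ← map_mul, mul_inv_cancel, map_one, MulAut.one_apply]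
    have h4 : MulAut.conj c x = x := by
      show MulAut.conj (g * m * g⁻¹ * m⁻¹) x = x
      rw [map_mul, MulAut.mul_apply]
      have h5 : MulAut.conj (g * m * g⁻¹) (MulAut.conj m⁻¹ x) = (MulAut.conj m⁻¹ x) ^ l := by
        have hx3 := (Subgroup.mem_normalizer_iff.mp (inv_mem hgN) _).mp hmx
        have h2 := hl _ hx3
        rw [inv_inv] at h2
        calc MulAut.conj (g * m * g⁻¹) (MulAut.conj m⁻¹ x)
            = g * (m * (g⁻¹ * MulAut.conj m⁻¹ x * g) * m⁻¹) * g⁻¹ := by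
              rw [MulAut.conj_apply (g * m * g⁻¹)]; group
          _ = g * (g⁻¹ * MulAut.conj m⁻¹ x * g) ^ l * g⁻¹ := by rw [h2]
          _ = (MulAut.conj m⁻¹ x) ^ l := by rw [← conj_pow]; group
      rw [h5, ← hl _ hmx, ← MulAut.conj_apply, h3]
    rw [MulAut.conj_apply, mul_inv_eq_iff_eq_mul] at h4
    exact h4
  have horbc : ∀ z, z ∉ Set.range a → c • z ∈ orbit R z := by
    intro z hz
    have hgz : g⁻¹ • z ∉ Set.range a := h.notMem_range (π := (Equiv.swap 0 1 * Equiv.swap 1 2)⁻¹)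
      (fun i => by rw [inv_smul_eq_iff, hπg]; simp) hz
    have hminv : ∀ w, w ∉ Set.range a → m⁻¹ • w ∈ orbit R w := fun w hw => by
      have h1 := h.smul_orbit (inv_mem hmN) (horb w hw)
      rw [inv_smul_smul] at h1
      exact mem_orbit_symm.mp h1
    have h1 := h.smul_orbit (inv_mem hgN) (hminv z hz)
    have h2 : m • g⁻¹ • m⁻¹ • z ∈ orbit R (g⁻¹ • z) := by
      rw [← orbit_eq_iff.mpr (horb _ hgz)]
      exact h.smul_orbit hmN h1
    have h3 := h.smul_orbit hgN h2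
    rw [smul_inv_smul] at h3
    simpa only [c, mul_smul] using h3
  -- the double transposition
  set d := c ^ r
  have hout : ∀ z, z ∉ Set.range a → d • z = z := fun z hz => h.pow_fix_of_comm hc (horbc z hz)
  let π : Equiv.Perm (Fin 4) := (Equiv.swap 0 1 * Equiv.swap 1 2) * finRotate 4 ^ 6 *
    (Equiv.swap 0 1 * Equiv.swap 1 2)⁻¹ * (finRotate 4 ^ 6)⁻¹
  have hmπ : ∀ i, m • a i = a ((finRotate 4 ^ 6) i) := by
    have : ∀ (n : ℕ) i, nq ^ n • a i = a ((finRotate 4 ^ n) i) := by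
      intro n
      induction n with
      | zero => simp
      | succ n ih => intro i; rw [pow_succ, mul_smul, hπq, ih, pow_succ]; rfl
    exact this 6
  have hinv : ∀ {n : G} {σ : Equiv.Perm (Fin 4)}, (∀ i, n • a i = a (σ i)) → ∀ i, n⁻¹ • a i = a (σ⁻¹ i) :=
    fun hn i => by rw [inv_smul_eq_iff, hn]; simp
  have hcπ : ∀ i, c • a i = a (π i) := fun i => by
    simp only [c, π, mul_smul, hinv hmπ, hinv hπg, hπg, hmπ, Equiv.Perm.mul_apply]
  have hdπ : ∀ i, d • a i = a (π i) := by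
    intro i
    have : ∀ (n : ℕ), ∀ i, c ^ n • a i = a ((π ^ n) i) := by
      intro n
      induction n with
      | zero => simp
      | succ n ih => intro i; rw [pow_succ, mul_smul, hcπ, ih, pow_succ]; rfl
    show c ^ r • a i = _
    obtain ⟨e, he⟩ := hr.out.odd_of_ne_two (by omega)
    rw [this, he, pow_succ, pow_mul, show π ^ 2 = 1 from Equiv.ext (by decide), one_pow, one_mul]
  set D := MulAction.toPermHom G Ω d
  have hD : D = Equiv.swap (a 0) (a 3) * Equiv.swap (a 1) (a 2) := by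
    ext w
    show d • w = _
    by_cases hw : w ∈ Set.range a
    · obtain ⟨i, rfl⟩ := hw
      show d • a i = Equiv.swap (a 0) (a 3) (Equiv.swap (a 1) (a 2) (a i))
      rw [hdπ, a.injective.swap_apply, a.injective.swap_apply]
      exact congrArg a ((by decide : ∀ i, π i = Equiv.swap 0 3 (Equiv.swap 1 2 i)) i)
    · rw [hout w hw, Equiv.Perm.mul_apply, Equiv.swap_apply_of_ne_of_ne (fun e => hw ⟨1, e.symm⟩)
        (fun e => hw ⟨2, e.symm⟩), Equiv.swap_apply_of_ne_of_ne (fun e => hw ⟨0, e.symm⟩)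
        (fun e => hw ⟨3, e.symm⟩)]
  obtain ⟨e, he⟩ : ∃ z, z ∉ Set.range a := by
    by_contra! hall
    have h1 := Set.ncard_range_of_injective a.injective
    rw [Set.eq_univ_of_forall hall, Set.ncard_univ, Nat.card_fin, hcard] at h1
    omega
  have hinj : Function.Injective (fun i : Fin 4 => if i = 3 then e else a i) := by
    intro i j hij
    simp only at hij
    split_ifs at hij with h1 h2 h2
    · exact h1.trans h2.symm
    · exact absurd ⟨j, hij.symm⟩ he
    · exact absurd ⟨i, hij⟩ he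
    · exact a.injective hij
  have := hle 4 (by norm_num)
  obtain ⟨k, hk⟩ := exists_smul_eq G a (⟨_, hinj⟩ : Fin 4 ↪ Ω)
  have hkk : ∀ i, k • a i = if i = 3 then e else a i := fun i => DFunLike.congr_fun hk i
  set D' := MulAction.toPermHom G Ω (k * d * k⁻¹)
  have hD' : D' = Equiv.swap (a 0) e * Equiv.swap (a 1) (a 2) := by
    set K := MulAction.toPermHom G Ω k
    have hK : ∀ i, K (a i) = if i = 3 then e else a i := hkk
    show MulAction.toPermHom G Ω (k * d * k⁻¹) = _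
    rw [map_mul, map_mul, map_inv]
    show K * D * K⁻¹ = _
    rw [hD, show K * (Equiv.swap (a 0) (a 3) * Equiv.swap (a 1) (a 2)) * K⁻¹ =
      (K * Equiv.swap (a 0) (a 3) * K⁻¹) * (K * Equiv.swap (a 1) (a 2) * K⁻¹) by group,
      ← Equiv.swap_apply_apply, ← Equiv.swap_apply_apply, hK, hK, hK, hK]
    simp
  refine alternating_le_of_threeCycle hprim (g := d * (k * d * k⁻¹)) ?_
  rw [map_mul]
  show (D * D').IsThreeCycle
  rw [hD, hD']
  have hne : ∀ i j : Fin 4, i ≠ j → a i ≠ a j := fun i j hij => a.injective.ne hij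
  have hae : ∀ i, a i ≠ e := fun i hi => he ⟨i, hi⟩
  rw [show Equiv.swap (a 0) (a 3) * Equiv.swap (a 1) (a 2) * (Equiv.swap (a 0) e * Equiv.swap (a 1) (a 2)) =
    Equiv.swap (a 0) (a 3) * (Equiv.swap (a 1) (a 2) * Equiv.swap (a 0) e * (Equiv.swap (a 1) (a 2))⁻¹) by
      rw [Equiv.swap_inv]; group, ← Equiv.swap_apply_apply,
    Equiv.swap_apply_of_ne_of_ne (hne 0 1 (by decide)) (hne 0 2 (by decide)),
    Equiv.swap_apply_of_ne_of_ne (hae 1).symm (hae 2).symm]
  exact Equiv.Perm.isThreeCycle_swap_mul_swap_same (hne 0 3 (by decide)) (hae 0) (hae 3)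

end Cfsg.Agent.Lib.PrimeHalfTwin
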