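import Cfsg.Agent.Lib.PrimeHalf.Setup
import Mathlib.GroupTheory.Perm.Sign

/-!
# Prime degree, half normaliser: every element is an even permutation
-/

set_option autoImplicit false

namespace Cfsg.Agent.Lib.PrimeHalfTwin

open MulAction

variable {G Ω : Type*} [Group G] [MulAction G Ω] {p : ℕ} [hp : Fact p.Prime]

/-- The sign of a group element acting on `Ω`. -/
noncomputable def actionSign (G Ω : Type*) [Group G] [MulAction G Ω] [Fintype Ω] [DecidableEq Ω] :
    G →* ℤˣ :=
  Equiv.Perm.sign.comp (MulAction.toPermHom G Ω)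

/-- Elements acting by translations in the labelling `e`. -/
def shifts (G : Type*) {Ω : Type*} [Group G] [MulAction G Ω] {p : ℕ} (e : ZMod p ≃ Ω) : Subgroup G where
  carrier := {g | ∃ w : ZMod p, ∀ j, g • e j = e (j + w)}
  one_mem' := ⟨0, fun j => by simp⟩
  mul_mem' := by
    rintro g h ⟨v, hv⟩ ⟨w, hw⟩
    exact ⟨w + v, fun j => by rw [mul_smul, hw, hv, add_assoc]⟩
  inv_mem' := by
    rintro g ⟨v, hv⟩
    exact ⟨-v, fun j => by rw [inv_smul_eq_iff, hv, neg_add_cancel_right]⟩

theorem actionSign_eq_one [Fintype Ω] [DecidableEq Ω] [FaithfulSMul G Ω] [Finite G]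
    (hΩ : Fintype.card Ω = p) (htrans : IsPretransitive G Ω) (hp2 : p ≠ 2) {e : ZMod p ≃ Ω}
    (he : PrimeHalf.Coord G e) (P : Sylow p G)
    (hN : 2 * Nat.card ↥(Subgroup.normalizer ((P : Subgroup G) : Set G)) = p * (p - 1)) (g : G) :
    actionSign G Ω g = 1 := by
  classical
  set ψ := actionSign G Ω
  have hψ : ∀ g, ψ g = Equiv.Perm.sign (MulAction.toPerm g : Equiv.Perm Ω) := fun _ => rfl
  have hodd : Odd p := hp.out.odd_of_ne_two hp2
  have hshift : ∀ g ∈ shifts G e, ψ g = 1 := by
    rintro g ⟨w, hw⟩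
    have hn : ∀ (n : ℕ) j, (g ^ n) • e j = e (j + n * w) := by
      intro n
      induction n with
      | zero => simp
      | succ n ih => intro j; rw [pow_succ, mul_smul, hw, ih]; congr 1; push_cast; ring
    have h1 : g ^ p = 1 := eq_of_smul_eq_smul fun x : Ω => by
      obtain ⟨j, rfl⟩ := e.surjective x
      rw [hn]; simp
    have h2 := congrArg ψ h1
    rw [map_pow, map_one] at h2
    rcases Int.units_eq_one_or (ψ g) with h | h
    · exact h
    · rw [h, hodd.neg_one_pow] at h2
      exact absurd h2 (by decide)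
  -- the translations form a Sylow subgroup
  have hinjw : ∀ g, g ∈ shifts G e → ∀ w w' : ZMod p, (∀ j, g • e j = e (j + w)) →
      (∀ j, g • e j = e (j + w')) → w = w' := fun g _ w w' h h' => by
    simpa using e.injective ((h 0).symm.trans (h' 0))
  have hTc : Nat.card (shifts G e) = p := by
    have hb : Function.Bijective (fun g : shifts G e => Classical.choose g.2) := by
      refine ⟨fun g h hgh => Subtype.ext (eq_of_smul_eq_smul fun x : Ω => ?_), fun w => ?_⟩
      · obtain ⟨j, rfl⟩ := e.surjective x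
        simp only at hgh
        rw [Classical.choose_spec g.2 j, Classical.choose_spec h.2 j, hgh]
      · obtain ⟨g, hg⟩ := he.shift w
        exact ⟨⟨g, w, hg⟩, hinjw g ⟨w, hg⟩ _ _ (Classical.choose_spec (⟨w, hg⟩ : g ∈ shifts G e)) hg⟩
    rw [Nat.card_congr (Equiv.ofBijective _ hb), Nat.card_zmod]
  obtain ⟨S, hS⟩ := (IsPGroup.of_card (p := p) (n := 1) (by rw [hTc, pow_one]) :
    IsPGroup p (shifts G e)).exists_le_sylow
  have hST : (S : Subgroup G) = shifts G e := (Subgroup.eq_of_le_of_card_ge hS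
    (by rw [PrimeHalf.card_sylow hΩ htrans S, hTc])).symm
  set N := Subgroup.normalizer ((S : Subgroup G) : Set G) with hNdef
  have hNc : 2 * Nat.card N = p * (p - 1) := by
    rw [← hN]
    congr 1
    obtain ⟨t, ht⟩ := exists_smul_eq G P S
    have h1 := Sylow.card_eq_index_normalizer P
    rw [Sylow.card_eq_index_normalizer S] at h1
    change N.index = (Subgroup.normalizer ((P : Subgroup G) : Set G)).index at h1
    have h2 := (Subgroup.normalizer ((P : Subgroup G) : Set G)).card_mul_index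
    rw [← h1, ← N.card_mul_index] at h2
    exact (Nat.eq_of_mul_eq_mul_right (Nat.pos_of_ne_zero Subgroup.index_ne_zero_of_finite) h2).symm
  -- the elements found by the labelling fill the normaliser
  let sq : (ZMod p)ˣ →* (ZMod p)ˣ := powMonoidHom 2
  have hker : Nat.card sq.ker ≤ 2 := by
    have hne : (1 : (ZMod p)ˣ) ≠ -1 := fun h => by
      have h4 : (1 : ZMod p) = -1 := by simpa using congrArg Units.val h
      have h3 : ((2 : ℕ) : ZMod p) = 0 := by push_cast; linear_combination h4
      exact hp2 ((Nat.prime_dvd_prime_iff_eq hp.out Nat.prime_two).mp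
        ((ZMod.natCast_eq_zero_iff 2 p).mp h3))
    have hsub : (sq.ker : Set (ZMod p)ˣ) ⊆ {1, -1} := by
      intro x hx
      have hx2 : ((x : ZMod p)) ^ 2 = 1 := by
        simpa [sq] using congrArg Units.val (MonoidHom.mem_ker.mp hx)
      rcases sq_eq_one_iff.mp hx2 with h | h
      · exact Or.inl (Units.ext h)
      · exact Or.inr (Units.ext (by simpa using h))
    calc Nat.card sq.ker = (sq.ker : Set (ZMod p)ˣ).ncard := Nat.card_coe_set_eq _
      _ ≤ ({1, -1} : Set (ZMod p)ˣ).ncard := Set.ncard_le_ncard hsub (Set.toFinite _)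
      _ = 2 := Set.ncard_pair hne
  have hex : ∀ x : sq.range × ZMod p, ∃ g : G,
      (∀ j, g • e j = e ((x.1.1 : ZMod p) * j + x.2)) ∧ ψ g = 1 := by
    rintro ⟨⟨u, v, rfl⟩, w⟩
    obtain ⟨s, hs⟩ := he.scale (((sq v : (ZMod p)ˣ) : ZMod p)) (Units.ne_zero _)
      ⟨(v : ZMod p), by simp [sq, pow_two]⟩
    obtain ⟨t, ht⟩ := he.shift w
    refine ⟨t * s, fun j => by rw [mul_smul, hs, ht], ?_⟩
    rw [map_mul, hshift t ⟨w, ht⟩, one_mul, hψ]
    let m : Equiv.Perm Ω := (e.symm.trans (Equiv.mulLeft₀ (v : ZMod p) (Units.ne_zero v))).trans e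
    have hm : (MulAction.toPerm s : Equiv.Perm Ω) = m * m := Equiv.ext fun x => by
      obtain ⟨j, rfl⟩ := e.surjective x
      simp [m, hs, sq, pow_two, mul_assoc]
    rw [hm, map_mul]
    exact Int.units_mul_self _
  choose f hf hfψ using hex
  have hfN : ∀ x, f x ∈ N := by
    intro x
    rw [hNdef, hST, Subgroup.mem_normalizer_iff]
    have hu : (x.1.1 : ZMod p) ≠ 0 := Units.ne_zero _
    intro h
    constructor
    · rintro ⟨w, hw⟩
      refine ⟨(x.1.1 : ZMod p) * w, fun j => ?_⟩
      have hj : (f x)⁻¹ • e j = e ((j - x.2) / (x.1.1 : ZMod p)) := by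
        rw [inv_smul_eq_iff, hf]; congr 1; field_simp; ring
      rw [mul_smul, mul_smul, hj, hw, hf]
      congr 1; field_simp; ring
    · rintro ⟨w, hw⟩
      refine ⟨w / (x.1.1 : ZMod p), fun j => ?_⟩
      have h1 := hw ((x.1.1 : ZMod p) * j + x.2)
      rw [← hf x j, mul_smul, mul_smul, inv_smul_smul] at h1
      apply smul_left_cancel (f x)
      rw [h1, hf]
      congr 1; field_simp; ring
  have hinj : Function.Injective (fun x => (⟨f x, hfN x⟩ : N)) := by
    rintro ⟨u, w⟩ ⟨u', w'⟩ h
    have h' : f (u, w) = f (u', w') := congrArg Subtype.val h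
    have h0 := (hf (u, w) 0).symm.trans ((congrArg (· • e 0) h').trans (hf (u', w') 0))
    have h1 := (hf (u, w) 1).symm.trans ((congrArg (· • e 1) h').trans (hf (u', w') 1))
    replace h0 : w = w' := by simpa using e.injective h0
    replace h1 : (u.1 : ZMod p) = u'.1 := by simpa [h0] using e.injective h1
    exact Prod.ext (Subtype.ext (Units.ext h1)) h0
  have hcard : Nat.card N ≤ Nat.card (sq.range × ZMod p) := by
    have h1 := sq.ker.card_mul_index
    rw [Subgroup.index_ker, Nat.card_eq_fintype_card (α := (ZMod p)ˣ), ZMod.card_units_eq_totient,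
      Nat.totient_prime hp.out] at h1
    rw [Nat.card_prod, Nat.card_zmod]
    have h2 : p - 1 ≤ 2 * Nat.card sq.range := h1 ▸ Nat.mul_le_mul_right _ hker
    have h3 := Nat.mul_le_mul_left p h2
    rw [← hNc] at h3
    linarith
  have hbij := hinj.bijective_of_nat_card_le hcard
  have hNψ : N ≤ ψ.ker := fun h hh => by
    obtain ⟨x, hx⟩ := hbij.2 ⟨h, hh⟩
    rw [MonoidHom.mem_ker, show h = f x from (congrArg Subtype.val hx).symm]
    exact hfψ x
  have htop := Sylow.normalizer_sup_eq_top' (N := ψ.ker) S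
    (fun t ht => hshift t (hST ▸ ht))
  have : ψ.ker = ⊤ := by rw [← htop]; exact (sup_eq_right.mpr hNψ).symm
  exact MonoidHom.mem_ker.mp (this ▸ Subgroup.mem_top g)

end Cfsg.Agent.Lib.PrimeHalfTwin
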