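import Cfsg.Agent.Lib.PrimeHalfTwin.Rank3
import Cfsg.Agent.Lib.Perm.PrimeDegreeSylow

/-!
# Triple transitivity for `p = q + 2`, and solvable groups of prime degree
-/

set_option autoImplicit false

namespace Cfsg.Agent.Lib.PrimeHalfTwin

open MulAction Cfsg.Agent.Lib.Perm
open scoped commutatorElement

/-- With four orbits of a two-point stabiliser, `p - 2` is not an odd prime. -/
theorem false_of_four_orbits {G Ω : Type*} [Group G] [MulAction G Ω] [Finite Ω] {q : ℕ}
    (hq : q.Prime) (hq2 : q ≠ 2) (hΩ : Nat.card Ω = q + 2)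
    (h2 : IsMultiplyPretransitive G Ω 2) {α β : Ω} (hab : α ≠ β)
    (hprim : IsPreprimitive ↥(stabilizer G α) ↥(SubMulAction.ofStabilizer G α))
    (h4 : Nat.card (MulAction.orbitRel.Quotient ↥(stabilizer G α ⊓ stabilizer G β) Ω) = 4) : False := by
  classical
  set M := stabilizer G α ⊓ stabilizer G β
  let cls : Ω → MulAction.orbitRel.Quotient M Ω := Quotient.mk _
  have hcls : ∀ {x y : Ω}, cls x = cls y ↔ x ∈ orbit M y := Quotient.eq''
  have hα : ∀ {x : Ω}, x ∈ orbit M α → x = α := by rintro x ⟨m, rfl⟩; exact m.2.1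
  have hβ : ∀ {x : Ω}, x ∈ orbit M β → x = β := by rintro x ⟨m, rfl⟩; exact m.2.2
  have hsurj : ∀ (n : ℕ) (f : Fin n → MulAction.orbitRel.Quotient M Ω), n < 4 → ¬ Function.Surjective f :=
    fun n f hn hf => by
      have := Nat.card_le_card_of_surjective f hf
      rw [h4, Nat.card_fin] at this
      omega
  obtain ⟨c, hca, hcb⟩ : ∃ c, c ≠ α ∧ c ≠ β := by
    by_contra! h
    refine hsurj 2 ![cls α, cls β] (by omega) fun Q => ?_
    obtain ⟨z, rfl⟩ := Quotient.exists_rep Q
    by_cases hz : z = α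
    · exact ⟨0, by subst hz; rfl⟩
    · obtain rfl := h z hz; exact ⟨1, rfl⟩
  obtain ⟨d, hda, hdb, hdc⟩ : ∃ d, d ≠ α ∧ d ≠ β ∧ d ∉ orbit M c := by
    by_contra! h
    refine hsurj 3 ![cls α, cls β, cls c] (by omega) fun Q => ?_
    obtain ⟨z, rfl⟩ := Quotient.exists_rep Q
    by_cases hz : z = α
    · exact ⟨0, by subst hz; rfl⟩
    by_cases hz' : z = β
    · exact ⟨1, by subst hz'; rfl⟩
    exact ⟨2, (hcls.mpr (h z hz hz')).symm⟩
  have hcover : ∀ z, z = α ∨ z = β ∨ z ∈ orbit M c ∨ z ∈ orbit M d := by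
    intro z
    by_contra! h
    obtain ⟨hz1, hz2, hz3, hz4⟩ := h
    have hfin : Finite (MulAction.orbitRel.Quotient M Ω) :=
      Finite.of_surjective cls Quotient.mk_surjective
    have hinj : Function.Injective ![cls α, cls β, cls c, cls d, cls z] := by
      intro i j hij
      fin_cases i <;> fin_cases j <;> simp at hij ⊢
      all_goals rw [hcls] at hij
      all_goals first
        | exact hab (hβ hij) | exact hab (hα hij).symm | exact hca (hα hij) | exact hcb (hβ hij)
        | exact hda (hα hij) | exact hdb (hβ hij) | exact hz1 (hα hij) | exact hz2 (hβ hij)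
        | exact hca (hα (mem_orbit_symm.mp hij)) | exact hcb (hβ (mem_orbit_symm.mp hij))
        | exact hda (hα (mem_orbit_symm.mp hij)) | exact hdb (hβ (mem_orbit_symm.mp hij))
        | exact hz1 (hα (mem_orbit_symm.mp hij)) | exact hz2 (hβ (mem_orbit_symm.mp hij))
        | exact hdc hij | exact hdc (mem_orbit_symm.mp hij)
        | exact hz3 hij | exact hz3 (mem_orbit_symm.mp hij)
        | exact hz4 hij | exact hz4 (mem_orbit_symm.mp hij)
    have := Nat.card_le_card_of_injective _ hinj
    rw [h4, Nat.card_fin] at this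
    omega
  have hdisj : Disjoint (orbit M c) (orbit M d) :=
    Set.disjoint_left.mpr fun z hzc hzd => hdc (by
      rw [← orbit_eq_iff.mpr hzc, orbit_eq_iff.mpr hzd]; exact mem_orbit_self d)
  have huniv : (Set.univ : Set Ω) = {α, β} ∪ (orbit M c ∪ orbit M d) := by
    ext z; simp only [Set.mem_univ, Set.mem_union, Set.mem_insert_iff, Set.mem_singleton_iff, true_iff]
    rcases hcover z with h | h | h | h <;> tauto
  have hdisj2 : Disjoint ({α, β} : Set Ω) (orbit M c ∪ orbit M d) := by
    refine Set.disjoint_left.mpr ?_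
    rintro z (rfl | rfl) (h | h)
    · exact hca (hα (mem_orbit_symm.mp h))
    · exact hda (hα (mem_orbit_symm.mp h))
    · exact hcb (hβ (mem_orbit_symm.mp h))
    · exact hdb (hβ (mem_orbit_symm.mp h))
  have hsum : (orbit M c).ncard + (orbit M d).ncard = q := by
    have := congrArg Set.ncard huniv
    rw [Set.ncard_univ, hΩ, Set.ncard_union_eq hdisj2, Set.ncard_pair hab,
      Set.ncard_union_eq hdisj] at this
    omega
  have hk : 0 < (orbit M c).ncard := (Set.ncard_pos (Set.toFinite _)).mpr ⟨c, mem_orbit_self c⟩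
  have hl : 0 < (orbit M d).ncard := (Set.ncard_pos (Set.toFinite _)).mpr ⟨d, mem_orbit_self d⟩
  refine false_of_two_suborbits ?_ hab hca hcb hda hdb hprim hdc hcover ?_ ?_
  · exact fun x y hxy z w hzw => is_two_pretransitive_iff.mp h2 hxy hzw
  · intro h
    replace h : (orbit M c).ncard = (orbit M d).ncard := h
    rcases (Nat.dvd_prime hq).mp (⟨(orbit M c).ncard, by omega⟩ : 2 ∣ q) with h' | h' <;> omega
  · have hd : ∀ g, g ∣ (orbit M c).ncard → g ∣ (orbit M d).ncard → g = 1 := fun g h1 h2' => by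
      rcases hq.eq_one_or_self_of_dvd g (hsum ▸ Nat.dvd_add h1 h2') with h | h
      · exact h
      · have := Nat.le_of_dvd hk h1; omega
    exact hd _ (Nat.gcd_dvd_left _ _) (Nat.gcd_dvd_right _ _)

/-- A solvable transitive group of prime degree `q` has order `q * f` with `f ∣ q - 1`. -/
theorem card_of_solvable {Γ X : Type*} [Group Γ] [MulAction Γ X] [FaithfulSMul Γ X] [Fintype X]
    {q : ℕ} [hq : Fact q.Prime] (hX : Fintype.card X = q) (htr : IsPretransitive Γ X)
    (hsol : Group.IsSolvable Γ) : ∃ f, f ∣ q - 1 ∧ Nat.card Γ = q * f := by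
  classical
  set ρ := MulAction.toPermHom Γ X
  have hρ : Function.Injective ρ := PrimeHalf.injective_toPermHom
  have : IsPretransitive ρ.range X := PrimeHalf.isPretransitive_range htr
  have : Group.IsSolvable ρ.range := Group.isSolvable_of_surjective ρ.rangeRestrict_surjective
  have hnt : Nontrivial ρ.range := by
    obtain ⟨x, y, hxy⟩ := Fintype.one_lt_card_iff.mp (hX ▸ hq.out.one_lt)
    obtain ⟨g, hg⟩ := exists_smul_eq ρ.range x y
    exact ⟨g, 1, fun h => hxy (by rw [← hg, h, one_smul])⟩
  have hex : ∃ n, derivedSeries ρ.range n = ⊥ := Group.IsSolvable.solvable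
  have hspec := Nat.find_spec hex
  have h0 : Nat.find hex ≠ 0 := fun e => by
    rw [e, derivedSeries_zero] at hspec
    exact top_ne_bot hspec
  obtain ⟨n, hn⟩ := Nat.exists_eq_succ_of_ne_zero h0
  set A := derivedSeries ρ.range n
  have : A.Normal := derivedSeries_normal _ n
  have hA : A ≠ ⊥ := Nat.find_min hex (by omega)
  have hcomm : A ≤ Subgroup.centralizer (A : Set ρ.range) := fun a ha => by
    rw [Subgroup.mem_centralizer_iff]
    intro b hb
    have h1 : ⁅b, a⁆ ∈ derivedSeries ρ.range (n + 1) := Subgroup.commutator_mem_commutator hb ha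
    rw [show n + 1 = Nat.find hex by omega, hspec, Subgroup.mem_bot] at h1
    exact commutatorElement_eq_one_iff_mul_comm.1 h1
  have := PrimeDegreeSylow.isPreprimitive (p := q) hX ρ.range
  have : IsPretransitive A X := Basic.isPretransitive_of_normal_ne_bot A hA
  obtain ⟨a⟩ : Nonempty X := Fintype.card_pos_iff.mp (hX ▸ hq.out.pos)
  have hle : Nat.card A ≤ q :=
    (Nat.card_le_card_of_injective _ (Basic.orbit_map_injective_of_le_centralizer A hcomm a)).trans_eq
      (by rw [Nat.card_eq_fintype_card, hX])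
  obtain ⟨P⟩ : Nonempty (Sylow q ρ.range) := inferInstance
  have hPA : (P : Subgroup ρ.range) = A := Subgroup.eq_of_le_of_card_ge
    (PrimeDegreeSylow.sylow_le_normal hX ρ.range P A hA)
    (by rw [PrimeDegreeSylow.card_sylow hX ρ.range P]; exact hle)
  obtain ⟨f, hf, hN⟩ := PrimeDegreeSylow.card_normalizer hX ρ.range P
  refine ⟨f, hf, ?_⟩
  rw [hPA, Subgroup.normalizer_eq_top_iff.mpr ‹_›, Subgroup.card_top] at hN
  rw [Nat.card_congr (MonoidHom.ofInjective hρ).toEquiv]
  exact hN

end Cfsg.Agent.Lib.PrimeHalfTwin
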