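import Cfsg.Agent.Lib.PrimeHalfTwin.Even
import Cfsg.Agent.Lib.PrimeHalfTwin.Three
import Cfsg.Agent.Lib.PrimeHalf.Main
import Cfsg.Agent.Lib.Perm.Multiple
import Cfsg.Agent.S3611

/-!
# S3613: five-fold transitivity for `p = q + 2`
-/

set_option autoImplicit false

namespace Cfsg.Agent.Lib.PrimeHalfTwin

open MulAction Cfsg.Agent.Lib.Perm

/-- The setwise stabiliser of a pair. -/
def pairStab (G : Type*) {Ω : Type*} [Group G] [MulAction G Ω] (α β : Ω) : Subgroup G where
  carrier := {h | (h • α = α ∧ h • β = β) ∨ (h • α = β ∧ h • β = α)}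
  one_mem' := Or.inl ⟨one_smul _ _, one_smul _ _⟩
  mul_mem' := fun {g h} hg hh => by
    rcases hg with ⟨g1, g2⟩ | ⟨g1, g2⟩ <;> rcases hh with ⟨h1, h2⟩ | ⟨h1, h2⟩
    · exact Or.inl ⟨by rw [mul_smul, h1, g1], by rw [mul_smul, h2, g2]⟩
    · exact Or.inr ⟨by rw [mul_smul, h1, g2], by rw [mul_smul, h2, g1]⟩
    · exact Or.inr ⟨by rw [mul_smul, h1, g1], by rw [mul_smul, h2, g2]⟩
    · exact Or.inl ⟨by rw [mul_smul, h1, g2], by rw [mul_smul, h2, g1]⟩
  inv_mem' := fun {g} hg => by
    rcases hg with ⟨g1, g2⟩ | ⟨g1, g2⟩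
    · exact Or.inl ⟨inv_smul_eq_iff.mpr g1.symm, inv_smul_eq_iff.mpr g2.symm⟩
    · exact Or.inr ⟨inv_smul_eq_iff.mpr g2.symm, inv_smul_eq_iff.mpr g1.symm⟩

variable {G Ω : Type*} [Group G] [MulAction G Ω]

/-- The points off a pair. -/
def OffPair (G : Type*) {Ω : Type*} [Group G] [MulAction G Ω] (α β : Ω) : SubMulAction (pairStab G α β) Ω where
  carrier := {z | z ≠ α ∧ z ≠ β}
  smul_mem' := by
    rintro ⟨g, hg⟩ z ⟨hza, hzb⟩
    show g • z ≠ α ∧ g • z ≠ β
    rcases hg with ⟨h1, h2⟩ | ⟨h1, h2⟩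
    · exact ⟨fun e => hza (smul_left_cancel g (e.trans h1.symm)), fun e => hzb (smul_left_cancel g (e.trans h2.symm))⟩
    · exact ⟨fun e => hzb (smul_left_cancel g (e.trans h2.symm)), fun e => hza (smul_left_cancel g (e.trans h1.symm))⟩

/-- The arithmetic excluding a solvable two-point stabiliser. -/
theorem twin_arith {p q f : ℕ} (hpq : p = q + 2) (hp : p.Prime) (hq : 5 < q) (hqo : q ≠ 9)
    (hf : f ∣ q - 1) (hmod : 2 * (q * f) % p = 1) : False := by
  have hf0 : 0 < f := Nat.pos_of_dvd_of_pos hf (by omega)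
  have hfle : f ≤ q - 1 := Nat.le_of_dvd (by omega) hf
  have h1 : p ∣ 4 * f + 1 := by
    have h2 : 2 * (q * f) + 4 * f = p * (2 * f) := by subst hpq; ring
    have h3 := Nat.div_add_mod (2 * (q * f)) p
    rw [hmod] at h3
    exact (Nat.dvd_add_right (dvd_mul_right p (2 * (q * f) / p))).mp ⟨2 * f, by omega⟩
  obtain ⟨j, hj⟩ := h1
  have hj4 : j < 4 := by
    by_contra h
    have := Nat.mul_le_mul_left p (show 4 ≤ j by omega)
    omega
  have hp13 : 13 ≤ p := by
    by_contra h
    have : q = 6 ∨ q = 7 ∨ q = 8 ∨ q = 10 := by omega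
    rcases this with h' | h' | h' | h' <;> subst h' <;> subst hpq <;>
      first | (norm_num at hp) | omega
  interval_cases j
  · omega
  · -- p = 4f+1
    have h2 : f ∣ 2 := by
      have hd : f ∣ 4 * f - 2 := by
        have : 4 * f - 2 = q - 1 := by omega
        rwa [this]
      have := Nat.dvd_sub (Dvd.intro_left 4 rfl : f ∣ 4 * f) hd
      rwa [show 4 * f - (4 * f - 2) = 2 by omega] at this
    have := Nat.le_of_dvd two_pos h2
    omega
  · omega
  · have h2 : f ∣ 8 := by
      have hd : f ∣ 4 * f - 8 := by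
        have : 4 * f - 8 = 3 * (q - 1) := by omega
        rw [this]; exact hf.mul_left 3
      have := Nat.dvd_sub (Dvd.intro_left 4 rfl : f ∣ 4 * f) hd
      rwa [show 4 * f - (4 * f - 8) = 8 by omega] at this
    have := Nat.le_of_dvd (by omega) h2
    omega

/-- S3613. -/
theorem five_transitive [Finite G] [Finite Ω] [FaithfulSMul G Ω]
    (p : ℕ) (hp : p.Prime) (hΩ : Nat.card Ω = p) (htrans : IsPretransitive G Ω)
    (hins : ¬ Group.IsSolvable G) (P : Sylow p G)
    (hN : 2 * Nat.card ↥(Subgroup.normalizer ((P : Subgroup G) : Set G)) = p * (p - 1))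
    (hprim : 7 < p → ∀ α : Ω,
      IsPreprimitive ↥(stabilizer G α) ↥(SubMulAction.ofStabilizer G α))
    (q : ℕ) (hq : q.Prime) (hq5 : 5 < q) (hpq : p = q + 2) :
    IsMultiplyPretransitive G Ω 5 := by
  classical
  have := Fintype.ofFinite Ω
  have : Fact p.Prime := ⟨hp⟩
  have : Fact q.Prime := ⟨hq⟩
  have hΩ' : Fintype.card Ω = p := by rw [← Nat.card_eq_fintype_card, hΩ]
  have h2 := PrimeHalf.two_transitive hΩ' htrans hins
  obtain ⟨e, he⟩ := PrimeHalf.exists_coord hΩ' htrans hins P hN.ge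
  have hsign := actionSign_eq_one hΩ' htrans (by omega) he P hN
  have hq9 : q ≠ 9 := fun h => by subst h; norm_num at hq
  have h3 : IsMultiplyPretransitive G Ω 3 := by
    have hodd := hp.eq_two_or_odd.resolve_left (by omega)
    rcases (show p % 4 = 1 ∨ p % 4 = 3 by omega) with h | h
    · refine PrimeHalf.three_transitive_of_even hΩ' htrans hins P ?_
      set n := Nat.card ↥(Subgroup.normalizer ((P : Subgroup G) : Set G))
      obtain ⟨k, hk⟩ : 4 ∣ p - 1 := ⟨(p - 1) / 4, by omega⟩
      exact ⟨p * k, by rw [hk] at hN; linarith⟩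
    · rcases S3611.result p hp hΩ htrans hins P hN h with h3 | h4
      · exact h3
      exfalso
      obtain ⟨α, β, hab⟩ := Fintype.one_lt_card_iff.mp (hΩ' ▸ hp.one_lt)
      exact false_of_four_orbits hq (by omega) (hΩ.trans hpq) h2 hab (hprim (by omega) α) (h4 α β hab)
  obtain ⟨α, β, hab⟩ := Fintype.one_lt_card_iff.mp (hΩ' ▸ hp.one_lt)
  set H := pairStab G α β
  set M := stabilizer G α ⊓ stabilizer G β
  let M' : Subgroup H := M.subgroupOf H
  let X := OffPair G α β
  have hXq : Nat.card X = q := by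
    have : Nat.card X = (({α, β} : Set Ω)ᶜ).ncard := by
      rw [← Nat.card_coe_set_eq]
      exact Nat.card_congr (Equiv.setCongr (Set.ext fun z =>
        show z ≠ α ∧ z ≠ β ↔ _ by simp))
    rw [this, Set.ncard_compl, Set.ncard_pair hab, hΩ]
    omega
  have hXq' : Fintype.card X = q := by rw [← Nat.card_eq_fintype_card, hXq]
  -- the transposition is odd, so the pair stabiliser is faithful
  have hfaith : FaithfulSMul H X := by
    refine ⟨fun {g h} hgh => ?_⟩
    have hX : ∀ z, z ≠ α → z ≠ β → ((g⁻¹ * h : H) : G) • z = z := fun z hza hzb => by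
      have := congrArg Subtype.val (hgh ⟨z, hza, hzb⟩)
      change ((g : G)⁻¹ * (h : G)) • z = z
      rw [mul_smul, inv_smul_eq_iff]
      exact this.symm
    suffices ((g⁻¹ * h : H) : G) = 1 from inv_mul_eq_one.mp (Subtype.ext this)
    refine eq_of_smul_eq_smul fun z : Ω => ?_
    rw [one_smul]
    rcases (g⁻¹ * h : H).2 with ⟨h1, h2⟩ | ⟨h1, h2⟩
    · by_cases hza : z = α
      · rw [hza, h1]
      by_cases hzb : z = β
      · rw [hzb, h2]
      exact hX z hza hzb
    · exfalso
      have hsw : (MulAction.toPerm ((g⁻¹ * h : H) : G) : Equiv.Perm Ω) = Equiv.swap α β :=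
        Equiv.ext fun w => by
          by_cases hwa : w = α
          · subst hwa; rw [Equiv.swap_apply_left]; exact h1
          by_cases hwb : w = β
          · subst hwb; rw [Equiv.swap_apply_right]; exact h2
          rw [Equiv.swap_apply_of_ne_of_ne hwa hwb]; exact hX w hwa hwb
      have h' : Equiv.Perm.sign (MulAction.toPerm ((g⁻¹ * h : H) : G) : Equiv.Perm Ω) = 1 := hsign _
      rw [hsw, Equiv.Perm.sign_swap hab] at h'
      exact absurd h' (by decide)
  have : FaithfulSMul M' X := ⟨fun {g h} hgh => Subtype.ext (eq_of_smul_eq_smul fun x : X => hgh x)⟩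
  have hM'X : IsPretransitive M' X := by
    refine ⟨fun x y => ?_⟩
    have hx : Function.Injective ![α, β, (x : Ω)] := by
      intro i j hij; fin_cases i <;> fin_cases j <;> simp at hij ⊢
      all_goals first | exact hab hij | exact hab hij.symm | exact x.2.1 hij | exact x.2.1 hij.symm | exact x.2.2 hij | exact x.2.2 hij.symm
    have hy : Function.Injective ![α, β, (y : Ω)] := by
      intro i j hij; fin_cases i <;> fin_cases j <;> simp at hij ⊢
      all_goals first | exact hab hij | exact hab hij.symm | exact y.2.1 hij | exact y.2.1 hij.symm | exact y.2.2 hij | exact y.2.2 hij.symm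
    obtain ⟨g, hg⟩ := exists_smul_eq G (⟨_, hx⟩ : Fin 3 ↪ Ω) ⟨_, hy⟩
    have h0 : g • α = α := DFunLike.congr_fun hg 0
    have h1 : g • β = β := DFunLike.congr_fun hg 1
    exact ⟨⟨⟨g, Or.inl ⟨h0, h1⟩⟩, ⟨h0, h1⟩⟩, Subtype.ext (DFunLike.congr_fun hg 2)⟩
  have hMc : Nat.card M' = Nat.card M :=
    Nat.card_congr (Subgroup.subgroupOfEquivOfLe (fun h hh => Or.inl hh : M ≤ H)).toEquiv
  -- the two-point stabiliser is insoluble
  have hins' : ¬ Group.IsSolvable M' := by
    intro hs
    obtain ⟨f, hf, hfc⟩ := card_of_solvable (Γ := M') hXq' hM'X hs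
    rw [hMc] at hfc
    have hGc : Nat.card G = p * (p - 1) * (q * f) := by
      rw [Basic.card_eq_card_mul_card_stabilizer (α := Ω) α, hΩ, mul_assoc, ← hfc]
      congr 1
      have hst : IsPretransitive ↥(stabilizer G α) ↥(SubMulAction.ofStabilizer G α) := by
        refine ⟨fun x y => ?_⟩
        obtain ⟨g, hga, hg⟩ := is_two_pretransitive_iff.mp h2 (Ne.symm x.2) (Ne.symm y.2)
        exact ⟨⟨g, hga⟩, Subtype.ext hg⟩
      rw [Basic.card_eq_card_mul_card_stabilizer (G := stabilizer G α) (⟨β, hab.symm⟩ : SubMulAction.ofStabilizer G α)]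
      congr 1
      · rw [← hΩ]; exact SubMulAction.nat_card_ofStabilizer_eq G α
      · exact Nat.card_congr
          { toFun := fun g => ⟨g.1.1, g.1.2, congrArg Subtype.val (show g.1 • (⟨β, hab.symm⟩ : SubMulAction.ofStabilizer G α) = _ from g.2)⟩
            invFun := fun g => ⟨⟨g.1, g.2.1⟩, Subtype.ext g.2.2⟩
            left_inv := fun _ => rfl
            right_inv := fun _ => rfl }
    have h1 := card_sylow_modEq_one p G
    rw [Sylow.card_eq_index_normalizer P] at h1
    have h4 := (Subgroup.normalizer ((P : Subgroup G) : Set G)).card_mul_index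
    set n := (Subgroup.normalizer ((P : Subgroup G) : Set G)).index
    have hn : n = 2 * (q * f) := by
      refine Nat.eq_of_mul_eq_mul_left (show 0 < p * (p - 1) from Nat.mul_pos hp.pos (by omega)) ?_
      rw [← hN, mul_assoc, h4, hGc, ← hN]
      ring
    refine twin_arith hpq hp hq5 hq9 hf ?_
    rw [← hn]
    exact (show n % p = 1 % p from h1).trans (Nat.mod_eq_of_lt hp.one_lt)
  have hM2 := PrimeHalf.two_transitive (p := q) hXq' hM'X hins'
  -- the pair stabiliser
  obtain ⟨σ, hσa, hσb⟩ := is_two_pretransitive_iff.mp h2 hab hab.symm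
  let s : H := ⟨σ, Or.inr ⟨hσa, hσb⟩⟩
  have hsM : s ∉ M' := fun h => hab ((show σ • α = α from h.1).symm.trans hσa)
  have hidx : M'.index = 2 := by
    refine Subgroup.index_eq_two_iff.mpr ⟨s, fun b => ?_⟩
    rcases b.2 with ⟨hb1, hb2⟩ | ⟨hb1, hb2⟩
    · refine Or.inr ⟨⟨hb1, hb2⟩, fun h => ?_⟩
      apply hsM
      have := M'.mul_mem (M'.inv_mem (show b ∈ M' from ⟨hb1, hb2⟩)) h
      simpa using this
    · refine Or.inl ⟨⟨?_, ?_⟩, fun h => hab (h.1.symm.trans hb1)⟩
      · show ((b : G) * σ) • α = α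
        rw [mul_smul, hσa, hb2]
      · show ((b : G) * σ) • β = β
        rw [mul_smul, hσb, hb1]
  have : M'.Normal := Subgroup.normal_of_index_eq_two hidx
  obtain ⟨Q⟩ : Nonempty (Sylow q H) := inferInstance
  have hodd_mem : ∀ (x : H) (k : ℕ), Odd k → x ^ k ∈ M' → x ∈ M' := by
    rintro x _ ⟨m, rfl⟩ h
    have h2' : x ^ (2 * m) ∈ M' := by
      rw [pow_mul]; exact pow_mem (pow_two x ▸ Subgroup.mul_self_mem_of_index_two hidx x) m
    simpa [pow_succ] using M'.mul_mem (M'.inv_mem h2') h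
  have hQM : (Q : Subgroup H) ≤ M' := fun x hx => by
    obtain ⟨k, hk⟩ := Q.isPGroup' ⟨x, hx⟩
    refine hodd_mem x _ ((hq.odd_of_ne_two (by omega)).pow (n := k)) ?_
    rw [show x ^ q ^ k = 1 from congrArg Subtype.val hk]
    exact M'.one_mem
  have heven : Even (Nat.card ↥(Subgroup.normalizer ((Q : Subgroup H) : Set H))) := by
    by_contra hne
    rw [Nat.not_even_iff_odd] at hne
    have hle : Subgroup.normalizer ((Q : Subgroup H) : Set H) ≤ M' := fun x hx => by
      refine hodd_mem x _ hne ?_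
      rw [show x ^ Nat.card ↥(Subgroup.normalizer ((Q : Subgroup H) : Set H)) = 1 from
        congrArg Subtype.val (pow_card_eq_one' (x := (⟨x, hx⟩ : Subgroup.normalizer ((Q : Subgroup H) : Set H))))]
      exact M'.one_mem
    have htop := Sylow.normalizer_sup_eq_top' (N := M') Q hQM
    exact hsM (by
      have : M' = ⊤ := by rw [← htop]; exact (sup_eq_right.mpr hle).symm
      exact this ▸ Subgroup.mem_top s)
  have hinsH : ¬ Group.IsSolvable H := fun h => hins' inferInstance
  have hHX : IsPretransitive H X := ⟨fun x y => by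
    obtain ⟨g, hg⟩ := exists_smul_eq M' x y
    exact ⟨g.1, hg⟩⟩
  have hH3 := PrimeHalf.three_transitive_of_even (p := q) hXq' hHX hinsH Q heven
  have hM3 := Multiple.three_transitive_of_odd (G := H) (α := X)
    (by rw [hXq]; exact hq.odd_of_ne_two (by omega)) (by omega) hH3 M' hM2
  -- assemble
  refine ⟨fun x y => ?_⟩
  obtain ⟨a, ha0, ha1⟩ := is_two_pretransitive_iff.mp h2
    (x.injective.ne (show (0 : Fin 5) ≠ 1 by decide)) hab
  obtain ⟨b, hb0, hb1⟩ := is_two_pretransitive_iff.mp h2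
    (y.injective.ne (show (0 : Fin 5) ≠ 1 by decide)) hab
  let mk : ∀ (z : Fin 5 ↪ Ω) (g : G), g • z 0 = α → g • z 1 = β → (Fin 3 ↪ X) := fun z g h0 h1 =>
    ⟨fun i => ⟨g • z (Fin.natAdd 2 i), fun e => absurd (z.injective (smul_left_cancel g (e.trans h0.symm))) (by clear e; revert i; decide),
      fun e => absurd (z.injective (smul_left_cancel g (e.trans h1.symm))) (by clear e; revert i; decide)⟩,
     fun i j h => Fin.natAdd_injective _ _ (z.injective (smul_left_cancel g (congrArg Subtype.val h)))⟩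
  obtain ⟨m, hm⟩ := exists_smul_eq M' (mk x a ha0 ha1) (mk y b hb0 hb1)
  have hma : ((m : H) : G) • α = α := m.2.1
  have hmb : ((m : H) : G) • β = β := m.2.2
  refine ⟨b⁻¹ * ((m : H) : G) * a, ?_⟩
  ext i
  show (b⁻¹ * ((m : H) : G) * a) • x i = y i
  rw [mul_smul, mul_smul, inv_smul_eq_iff]
  have hi : ∀ k : Fin 3, ((m : H) : G) • a • x (Fin.natAdd 2 k) = b • y (Fin.natAdd 2 k) :=
    fun k => congrArg Subtype.val (DFunLike.congr_fun hm k)
  fin_cases i
  · show ((m : H) : G) • a • x 0 = b • y 0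
    rw [ha0, hma, hb0]
  · show ((m : H) : G) • a • x 1 = b • y 1
    rw [ha1, hmb, hb1]
  · exact hi 0
  · exact hi 1
  · exact hi 2

end Cfsg.Agent.Lib.PrimeHalfTwin
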