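import Cfsg.Agent.Lib.PrimeHalfTwin.Five
import Cfsg.Agent.Lib.PrimeHalfTwin.Alt

/-!
# S3614: the alternating criteria
-/

set_option autoImplicit false

namespace Cfsg.Agent.Lib.PrimeHalfTwin

open MulAction

variable {G Ω : Type*} [Group G] [MulAction G Ω] [Finite G] [Finite Ω] [FaithfulSMul G Ω]

/-- A group of even permutations of prime degree that contains all even permutations. -/
theorem nonempty_equiv_alternating (p : ℕ) (hp : p.Prime) (hp2 : p ≠ 2) (hΩ : Nat.card Ω = p)
    (htrans : IsPretransitive G Ω) (hins : ¬ Group.IsSolvable G) (P : Sylow p G)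
    (hN : 2 * Nat.card ↥(Subgroup.normalizer ((P : Subgroup G) : Set G)) = p * (p - 1))
    (hA : ∀ [Fintype Ω] [DecidableEq Ω], alternatingGroup Ω ≤ (MulAction.toPermHom G Ω).range) :
    Nonempty (G ≃* alternatingGroup (Fin p)) := by
  classical
  have := Fintype.ofFinite Ω
  have : Fact p.Prime := ⟨hp⟩
  have hΩ' : Fintype.card Ω = p := by rw [← Nat.card_eq_fintype_card, hΩ]
  obtain ⟨e, he⟩ := PrimeHalf.exists_coord hΩ' htrans hins P hN.ge
  have hsign := actionSign_eq_one hΩ' htrans hp2 he P hN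
  have heq : (MulAction.toPermHom G Ω).range = alternatingGroup Ω := by
    refine le_antisymm ?_ hA
    rintro _ ⟨g, rfl⟩
    exact Equiv.Perm.mem_alternatingGroup.mpr (hsign g)
  exact ⟨(MonoidHom.ofInjective PrimeHalf.injective_toPermHom).trans
    ((MulEquiv.subgroupCongr heq).trans (Equiv.altCongrHom (Fintype.equivFinOfCardEq hΩ')))⟩

/-- S3614. -/
theorem alternating_criteria (p : ℕ) (hp : p.Prime) (hΩ : Nat.card Ω = p)
    (htrans : IsPretransitive G Ω) (hins : ¬ Group.IsSolvable G) (P : Sylow p G)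
    (hN : 2 * Nat.card ↥(Subgroup.normalizer ((P : Subgroup G) : Set G)) = p * (p - 1))
    (hprim : 7 < p → ∀ α : Ω,
      IsPreprimitive ↥(stabilizer G α) ↥(SubMulAction.ofStabilizer G α))
    (q r : ℕ) (hq : q.Prime) (hr : r.Prime)
    (hcases : (p = q + 2 ∧ p = 2 * r + 3 ∧ 9 < p) ∨ (p = q + 2 ∧ p = 3 * r + 4 ∧ 13 < p)) :
    Nonempty (G ≃* alternatingGroup (Fin p)) := by
  have : Fact r.Prime := ⟨hr⟩
  have hr5 : 5 ≤ r := by
    by_contra hlt
    have h4 : r ≠ 4 := fun h => by subst h; norm_num at hr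
    have h2 := hr.two_le
    have h3 : r = 2 ∨ r = 3 := by omega
    rcases hcases with ⟨-, h, h'⟩ | ⟨-, h, h'⟩ <;> omega
  have h5 : IsMultiplyPretransitive G Ω 5 := by
    refine five_transitive p hp hΩ htrans hins P hN hprim q hq ?_ ?_ <;>
      rcases hcases with ⟨h1, h2, h3⟩ | ⟨h1, h2, h3⟩ <;> omega
  refine nonempty_equiv_alternating p hp (by omega) hΩ htrans hins P hN ?_
  intro _ _
  rcases hcases with ⟨-, h, -⟩ | ⟨-, h, -⟩
  · exact alternating_le_three (r := r) hr5 (by omega) h5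
  · exact alternating_le_four (r := r) hr5 (by omega) h5

end Cfsg.Agent.Lib.PrimeHalfTwin
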