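import Cfsg.Agent.Lib.Perm.Basic
import Cfsg.Agent.S0713
import Mathlib.GroupTheory.GroupAction.MultipleTransitivity
import Mathlib.GroupTheory.Sylow
import Mathlib.GroupTheory.IndexNormal
import Mathlib.GroupTheory.SpecificGroups.Cyclic

/-!
# An `r`-group all of whose moving orbits have length `r`
-/

set_option autoImplicit false

namespace Cfsg.Agent.Lib.PrimeHalfTwin

open MulAction Cfsg.Agent.Lib.Perm

variable {G Ω : Type*} [Group G] [MulAction G Ω]

/-- `R` fixes the points `a i`, has an orbit of length `r` through every other point, and its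
normaliser induces every permutation of the points `a i`. -/
structure Rig (R : Subgroup G) (r : ℕ) {k : ℕ} (a : Fin k ↪ Ω) : Prop where
  pgroup : IsPGroup r R
  fixed : ∀ x ∈ R, ∀ i, x • a i = a i
  orbit_card : ∀ z, z ∉ Set.range a → (orbit R z).ncard = r
  witt : ∀ π : Equiv.Perm (Fin k), ∃ n ∈ Subgroup.normalizer (R : Set G), ∀ i, n • a i = a (π i)

variable {R : Subgroup G} {r k : ℕ} [hr : Fact r.Prime] {a : Fin k ↪ Ω}

namespace Rig

variable (h : Rig R r a)

include h

theorem stabilizer_index {z : Ω} (hz : z ∉ Set.range a) : (stabilizer R z).index = r := by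
  rw [index_stabilizer, h.orbit_card z hz]

theorem stabilizer_normal [Finite G] {z : Ω} (hz : z ∉ Set.range a) : (stabilizer R z).Normal := by
  refine Subgroup.normal_of_index_eq_minFac_card ?_
  rw [h.stabilizer_index hz]
  obtain ⟨t, ht⟩ := h.pgroup.exists_card_eq
  have hd := (stabilizer R z).index_dvd_card
  rw [h.stabilizer_index hz, ht] at hd
  have ht0 : t ≠ 0 := by
    rintro rfl
    rw [pow_zero] at hd
    exact hr.out.not_dvd_one hd
  rw [ht, Nat.pow_minFac ht0, hr.out.minFac_eq]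

theorem fix_orbit [Finite G] {z w : Ω} {x : G} (hx : x ∈ R) (hxz : x • z = z)
    (hw : w ∈ orbit R z) : x • w = w := by
  by_cases hz : z ∈ Set.range a
  · obtain ⟨i, rfl⟩ := hz
    obtain ⟨⟨g, hg⟩, rfl⟩ := hw
    show x • g • a i = g • a i
    rw [h.fixed g hg i, h.fixed x hx i]
  obtain ⟨g, rfl⟩ := hw
  have := (h.stabilizer_normal hz).conj_mem (⟨x, hx⟩ : R) hxz g⁻¹
  have h1 : ((g : G)⁻¹ * x * (g : G)) • z = z := by
    simpa [mem_stabilizer_iff, Subgroup.smul_def] using this
  rw [mul_smul, mul_smul, inv_smul_eq_iff] at h1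
  exact h1

theorem pow_fix [Finite G] {x : G} (hx : x ∈ R) (z : Ω) : x ^ r • z = z := by
  by_cases hz : z ∈ Set.range a
  · obtain ⟨i, rfl⟩ := hz
    exact h.fixed _ (pow_mem hx r) i
  have := h.stabilizer_normal hz
  have h1 := (stabilizer R z).pow_index_mem (⟨x, hx⟩ : R)
  rw [h.stabilizer_index hz] at h1
  exact h1

theorem pow_eq_one [Finite G] [FaithfulSMul G Ω] {x : G} (hx : x ∈ R) : x ^ r = 1 :=
  eq_of_smul_eq_smul fun z : Ω => by rw [h.pow_fix hx z, one_smul]

theorem comm [Finite G] [FaithfulSMul G Ω] {x y : G} (hx : x ∈ R) (hy : y ∈ R) : x * y = y * x := by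
  refine eq_of_smul_eq_smul fun z : Ω => ?_
  by_cases hz : z ∈ Set.range a
  · obtain ⟨i, rfl⟩ := hz
    rw [mul_smul, mul_smul, h.fixed y hy i, h.fixed x hx i, h.fixed y hy i]
  have := h.stabilizer_normal hz
  have : IsCyclic (R ⧸ stabilizer R z) := isCyclic_of_prime_card (p := r) (by
    rw [← Subgroup.index_eq_card, h.stabilizer_index hz])
  have h1 : (QuotientGroup.mk ((⟨x, hx⟩ : R) * ⟨y, hy⟩) : R ⧸ stabilizer R z) =
      QuotientGroup.mk ((⟨y, hy⟩ : R) * ⟨x, hx⟩) := by
    rw [QuotientGroup.mk_mul, QuotientGroup.mk_mul]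
    exact mul_comm' _ _
  have h2 := (QuotientGroup.eq.mp h1.symm)
  have h3 : ((y * x)⁻¹ * (x * y)) • z = z := by
    simpa [mem_stabilizer_iff, Subgroup.smul_def] using h2
  rw [mul_smul, inv_smul_eq_iff] at h3
  exact h3

theorem exists_adjust [Finite G] {z : Ω} (hz : z ∉ Set.range a) {y : G} (hy : y ∈ R)
    (hyz : y • z ≠ z) {x : G} (hx : x ∈ R) : ∃ n : ℕ, ((y ^ n)⁻¹ * x) • z = z := by
  have := h.stabilizer_normal hz
  have hne : (QuotientGroup.mk (⟨y, hy⟩ : R) : R ⧸ stabilizer R z) ≠ 1 := fun e =>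
    hyz (show y • z = z from (QuotientGroup.eq_one_iff (⟨y, hy⟩ : R)).mp e)
  have htop := zpowers_eq_top_of_prime_card (p := r)
    (by rw [← Subgroup.index_eq_card, h.stabilizer_index hz]) hne
  obtain ⟨n, hn⟩ := mem_powers_iff_mem_zpowers.mpr
    (htop ▸ Subgroup.mem_top (QuotientGroup.mk (⟨x, hx⟩ : R) : R ⧸ stabilizer R z))
  refine ⟨n, ?_⟩
  have h2 : (QuotientGroup.mk ((⟨y, hy⟩ : R) ^ n) : R ⧸ stabilizer R z) = QuotientGroup.mk ⟨x, hx⟩ := hn
  exact (QuotientGroup.eq.mp h2 :)

/-- An element centralising `R` has `r`-th power trivial on every orbit it fixes setwise. -/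
theorem pow_fix_of_comm [Finite G] {c : G} (hc : ∀ x ∈ R, c * x = x * c) {z : Ω}
    (hcz : c • z ∈ orbit R z) : c ^ r • z = z := by
  obtain ⟨⟨x, hx⟩, hxz⟩ := hcz
  have hxz' : c • z = x • z := hxz.symm
  have hn : ∀ n : ℕ, c ^ n • z = x ^ n • z := by
    intro n
    induction n with
    | zero => simp
    | succ n ih =>
      rw [pow_succ' c, mul_smul, ih, ← mul_smul, hc _ (pow_mem hx n), mul_smul, hxz', ← mul_smul,
        ← pow_succ]
  rw [hn, h.pow_fix hx z]

/-- A normalising element permutes the orbits. -/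
theorem smul_orbit {n : G} (hn : n ∈ Subgroup.normalizer (R : Set G)) {z w : Ω}
    (hw : w ∈ orbit R z) : n • w ∈ orbit R (n • z) := by
  obtain ⟨⟨x, hx⟩, rfl⟩ := hw
  refine ⟨⟨n * x * n⁻¹, (Subgroup.mem_normalizer_iff.mp hn x).mp hx⟩, ?_⟩
  show (n * x * n⁻¹) • n • z = n • x • z
  rw [mul_smul, inv_smul_smul, mul_smul]

theorem notMem_range {n : G} {π : Equiv.Perm (Fin k)} (hn : ∀ i, n • a i = a (π i)) {z : Ω}
    (hz : z ∉ Set.range a) : n • z ∉ Set.range a := fun ⟨i, hi⟩ => hz ⟨π.symm i, by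
  apply smul_left_cancel n
  rw [hn, Equiv.apply_symm_apply, hi]⟩

/-- With at most `m` moving orbits, some power `≤ m` of a normalising element fixes a given orbit. -/
theorem exists_pow_orbit [Finite Ω] {m : ℕ} (hcard : Nat.card Ω = k + m * r) {n : G}
    (hnN : n ∈ Subgroup.normalizer (R : Set G)) {π : Equiv.Perm (Fin k)}
    (hn : ∀ i, n • a i = a (π i)) {z : Ω} (hz : z ∉ Set.range a) :
    ∃ d, 0 < d ∧ d ≤ m ∧ n ^ d • z ∈ orbit R z := by
  have hpow : ∀ j, n ^ j • z ∉ Set.range a := by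
    intro j
    induction j with
    | zero => simpa using hz
    | succ j ih => rw [pow_succ', mul_smul]; exact h.notMem_range hn ih
  have hshift : ∀ i j : ℕ, i ≤ j → n ^ j • z ∈ orbit R (n ^ i • z) → n ^ (j - i) • z ∈ orbit R z := by
    intro i j hij hmem
    have h1 := h.smul_orbit (inv_mem (pow_mem hnN i)) hmem
    rw [inv_smul_smul, ← mul_smul] at h1
    rwa [show (n ^ i)⁻¹ * n ^ j = n ^ (j - i) from by
      rw [inv_mul_eq_iff_eq_mul, ← pow_add]; congr 1; omega] at h1
  by_contra! hcon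
  let f : (Σ j : Fin (m + 1), orbit R (n ^ (j : ℕ) • z)) → {w : Ω // w ∉ Set.range a} := fun u =>
    ⟨u.2.1, by
      obtain ⟨g, hg⟩ := u.2.2
      rintro ⟨i, hi⟩
      refine hpow u.1 ⟨i, ?_⟩
      rw [← hg] at hi
      have h1 : (g : G) • a i = a i := h.fixed g g.2 i
      exact smul_left_cancel (g : G) (h1.trans hi)⟩
  have hf : Function.Injective f := by
    rintro ⟨i, w⟩ ⟨j, v⟩ huv
    have hval : w.1 = v.1 := congrArg Subtype.val huv
    have hij : i = j := by
      by_contra hne
      have h1 : orbit R (n ^ (i : ℕ) • z) = orbit R (n ^ (j : ℕ) • z) := by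
        rw [← orbit_eq_iff.mpr w.2, hval, orbit_eq_iff.mpr v.2]
      rcases lt_or_gt_of_ne (Fin.val_ne_of_ne hne) with hlt | hlt
      · exact hcon _ (by omega) (by omega) (hshift _ _ hlt.le (h1 ▸ mem_orbit_self _))
      · exact hcon _ (by omega) (by omega) (hshift _ _ hlt.le (h1 ▸ mem_orbit_self _))
    subst hij
    exact Sigma.ext rfl (heq_of_eq (Subtype.ext hval))
  have hle := Nat.card_le_card_of_injective f hf
  rw [Nat.card_sigma, Finset.sum_congr rfl (fun j _ => by
    rw [Nat.card_coe_set_eq, h.orbit_card _ (hpow _)]), Finset.sum_const, Finset.card_univ,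
    Fintype.card_fin, smul_eq_mul] at hle
  have hrest : Nat.card {w : Ω // w ∉ Set.range a} = m * r := by
    show Nat.card ↥((Set.range a)ᶜ) = m * r
    rw [Nat.card_coe_set_eq, Set.ncard_compl, Set.ncard_range_of_injective a.injective, Nat.card_fin,
      hcard, Nat.add_sub_cancel_left]
  rw [hrest] at hle
  have := hr.out.pos
  nlinarith

end Rig

/-- The Witt argument: a Sylow `r`-subgroup of the fixer of the points `a i`. -/
theorem exists_rig [Finite G] [Finite Ω] {m : ℕ} (hcard : Nat.card Ω = k + m * r) (hm : 0 < m)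
    (hmr : m < r) (hG : IsMultiplyPretransitive G Ω (k + 1)) (a : Fin k ↪ Ω) :
    ∃ R : Subgroup G, Rig R r a := by
  classical
  let F : Subgroup G := ⨅ i, stabilizer G (a i)
  have hF : ∀ {g : G}, g ∈ F ↔ ∀ i, g • a i = a i := fun {g} => by
    simp [F, Subgroup.mem_iInf, mem_stabilizer_iff]
  obtain ⟨S⟩ : Nonempty (Sylow r F) := inferInstance
  refine ⟨(S : Subgroup F).map F.subtype, S.isPGroup'.map _, ?_, ?_, ?_⟩
  · rintro _ ⟨x, -, rfl⟩ i
    exact hF.mp x.2 i
  · intro z hz
    have horb : orbit ((S : Subgroup F).map F.subtype) z = orbit (S : Subgroup F) z := by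
      ext w
      constructor
      · rintro ⟨⟨_, x, hx, rfl⟩, rfl⟩; exact ⟨⟨x, hx⟩, rfl⟩
      · rintro ⟨⟨x, hx⟩, rfl⟩; exact ⟨⟨_, Subgroup.mem_map_of_mem _ hx⟩, rfl⟩
    rw [horb]
    -- the orbit of the fixer
    have hFo : orbit F z = (Set.range a)ᶜ := by
      ext w
      constructor
      · rintro ⟨g, rfl⟩ ⟨i, hi⟩
        exact hz ⟨i, smul_left_cancel (g : G) ((hF.mp g.2 i).trans hi)⟩
      · intro hw
        have hext : ∀ y : Ω, y ∉ Set.range a → Function.Injective (Fin.snoc a y : Fin (k + 1) → Ω) :=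
          fun y hy => Fin.snoc_injective_of_injective a.injective hy
        obtain ⟨g, hg⟩ := exists_smul_eq G (⟨_, hext z hz⟩ : Fin (k + 1) ↪ Ω) ⟨_, hext w hw⟩
        refine ⟨⟨g, hF.mpr fun i => ?_⟩, ?_⟩
        · simpa using DFunLike.congr_fun hg i.castSucc
        · simpa using DFunLike.congr_fun hg (Fin.last k)
    have hFn : (orbit F z).ncard = m * r := by
      rw [hFo, Set.ncard_compl, Set.ncard_range_of_injective a.injective, Nat.card_fin, hcard,
        Nat.add_sub_cancel_left]
    have hnot : ¬ r ∣ (S : Subgroup F).index := S.not_dvd_index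
    obtain ⟨t, ht⟩ := S.isPGroup'.exists_card_eq
    have hd : (orbit (S : Subgroup F) z).ncard ∣ r ^ t := by
      rw [← index_stabilizer, ← ht]; exact Subgroup.index_dvd_card _
    obtain ⟨j, -, hj⟩ := (Nat.dvd_prime_pow hr.out).mp hd
    have hle : (orbit (S : Subgroup F) z).ncard ≤ m * r := by
      rw [← hFn]
      refine Set.ncard_le_ncard ?_ (Set.toFinite _)
      rintro _ ⟨x, rfl⟩
      exact ⟨x.1, rfl⟩
    rw [hj] at hle ⊢
    have hj1 : j ≠ 0 := by
      intro hj0
      rw [hj0, pow_zero] at hj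
      obtain ⟨w, hw⟩ := Set.ncard_eq_one.mp hj
      have hfixz : (S : Subgroup F) ≤ stabilizer F z := fun x hx => by
        have h1 : x • z ∈ orbit (S : Subgroup F) z := ⟨⟨x, hx⟩, rfl⟩
        have h2 : z ∈ orbit (S : Subgroup F) z := mem_orbit_self z
        rw [hw, Set.mem_singleton_iff] at h1 h2
        exact mem_stabilizer_iff.mpr (h1.trans h2.symm)
      have h3 := Subgroup.index_dvd_of_le hfixz
      rw [index_stabilizer, hFn] at h3
      exact hnot (dvd_trans (dvd_mul_left r m) h3)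
    have hj2 : j < 2 := by
      by_contra hj2
      have h1 := Nat.pow_le_pow_right hr.out.pos (not_lt.mp hj2)
      have h2 := Nat.mul_lt_mul_of_pos_right hmr hr.out.pos
      rw [pow_two] at h1
      omega
    rw [show j = 1 by omega, pow_one]
  · intro π
    have : IsMultiplyPretransitive G Ω k := isMultiplyPretransitive_of_le' (Nat.le_succ k) (by
      rw [ENat.card_eq_coe_natCard, hcard]
      exact_mod_cast (show k + 1 ≤ k + m * r by have := Nat.mul_pos hm hr.out.pos; omega))
    obtain ⟨g, hg⟩ := exists_smul_eq G a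
      (⟨fun i => a (π i), a.injective.comp π.injective⟩ : Fin k ↪ Ω)
    have hg' : ∀ i, g • a i = a (π i) := fun i => by simpa using DFunLike.congr_fun hg i
    have hnorm : g ∈ Subgroup.normalizer (F : Set G) := by
      rw [Subgroup.mem_normalizer_iff]
      intro x
      constructor
      · intro hx
        rw [hF] at hx ⊢
        intro i
        obtain ⟨j, rfl⟩ := π.surjective i
        rw [← hg' j, mul_smul, mul_smul, inv_smul_smul, hx]
      · intro hx
        rw [hF] at hx ⊢
        intro i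
        have h1 := hx (π i)
        rw [← hg' i, mul_smul, mul_smul, inv_smul_smul] at h1
        exact smul_left_cancel g h1
    let φ : MulAut F := Subgroup.normalizerMonoidHom F ⟨g, hnorm⟩
    obtain ⟨f, hf⟩ := exists_smul_eq F (φ • S) S
    refine ⟨(f : G) * g, ?_, fun i => ?_⟩
    · have h1 : ∀ x : F, x ∈ (S : Subgroup F) → f * φ x * f⁻¹ ∈ (S : Subgroup F) := fun x hx => by
        have h2 : ((f • φ • S : Sylow r F) : Subgroup F) = S := by rw [hf]
        rw [← h2]
        exact ⟨φ x, ⟨x, hx, rfl⟩, rfl⟩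
      let R' := (S : Subgroup F).map F.subtype
      have hsub : R'.map (MulAut.conj ((f : G) * g)).toMonoidHom ≤ R' := by
        rintro _ ⟨_, ⟨x, hx, rfl⟩, rfl⟩
        refine ⟨f * φ x * f⁻¹, h1 x hx, ?_⟩
        show ((f * φ x * f⁻¹ : F) : G) = (f : G) * g * (x : G) * ((f : G) * g)⁻¹
        have h3 : ((φ x : F) : G) = g * (x : G) * g⁻¹ := rfl
        rw [Subgroup.coe_mul, Subgroup.coe_mul, Subgroup.coe_inv, h3]
        group
      have heq := Subgroup.eq_of_le_of_card_ge hsub
        (le_of_eq (Subgroup.card_map_of_injective (MulEquiv.injective _)).symm)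
      rw [Subgroup.mem_normalizer_iff]
      intro x
      constructor
      · intro hx
        exact hsub ⟨x, hx, rfl⟩
      · intro hx
        have hx' : (f : G) * g * x * ((f : G) * g)⁻¹ ∈ R' := hx
        rw [← heq] at hx'
        obtain ⟨y, hy, hyx⟩ := hx'
        rw [show x = y from (MulEquiv.injective _ hyx).symm]
        exact hy
    · rw [mul_smul, hg', hF.mp f.2]

/-- A faithful primitive action with an element of order `r` moving at most `r` points. -/
theorem alternating_le_of_small_support [Fintype Ω] [DecidableEq Ω] [FaithfulSMul G Ω]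
    (hG : IsPreprimitive G Ω) (h5 : 5 ≤ Fintype.card Ω) (hrd : r + 3 ≤ Fintype.card Ω) {x : G}
    (hxr : x ^ r = 1) (hx1 : x ≠ 1) {T : Finset Ω} (hT : T.card ≤ r) (hxT : ∀ z ∉ T, x • z = z) :
    alternatingGroup Ω ≤ (MulAction.toPermHom G Ω).range := by
  set σ : Equiv.Perm Ω := MulAction.toPermHom G Ω x
  have hσr : σ ^ r = 1 := by rw [← map_pow, hxr, map_one]
  have hσ1 : σ ≠ 1 := fun e => hx1 (eq_of_smul_eq_smul fun z : Ω => by
    rw [one_smul]; exact Equiv.congr_fun e z)
  have hord : orderOf σ = r := orderOf_eq_prime hσr hσ1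
  have hsupp : σ.support ⊆ T := fun z hz => by
    by_contra hzT
    exact Equiv.Perm.mem_support.mp hz (hxT z hzT)
  have hle : σ.support.card ≤ r := (Finset.card_le_card hsupp).trans hT
  have hcyc : σ.IsCycle := Equiv.Perm.isCycle_of_prime_order (hord ▸ hr.out)
    (by rw [hord]; have := hr.out.pos; omega)
  have hR : IsPreprimitive (MulAction.toPermHom G Ω).range Ω := by
    let f : Ω →ₑ[(MulAction.toPermHom G Ω).rangeRestrict] Ω :=
      { toFun := id, map_smul' := fun _ _ => rfl }
    exact IsPreprimitive.of_surjective (f := f) Function.surjective_id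
  exact S0713.result _ hR hr.out h5 hrd hcyc (by rw [← hord, hcyc.orderOf]) ⟨x, rfl⟩

end Cfsg.Agent.Lib.PrimeHalfTwin
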