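import Cfsg.Agent.Lib.PrimeHalf.Setup
import Mathlib.GroupTheory.GroupAction.Primitive
import Mathlib.GroupTheory.GroupAction.SubMulAction.OfStabilizer
import Mathlib.Combinatorics.Enumerative.DoubleCounting

/-!
# A primitive rank three group whose two suborbits have coprime lengths does not exist
-/

set_option autoImplicit false

namespace Cfsg.Agent.Lib.PrimeHalfTwin

open MulAction

/-- A primitive group has no invariant relation whose neighbourhoods are cliques. -/
theorem false_of_clique {Γ X : Type*} [Group Γ] [MulAction Γ X] [Finite X] [IsPreprimitive Γ X]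
    (R : X → X → Prop) (hinv : ∀ (g : Γ) x y, R x y → R (g • x) (g • y)) (hirr : ∀ x, ¬ R x x)
    (b : X) (hB : ∀ x, R b x → ∀ y, R x y → y = b ∨ R b y)
    (h0 : ∃ x, R b x) (h1 : ∃ y, y ≠ b ∧ ¬ R b y) : False := by
  classical
  set B : Set X := insert b {y | R b y} with hBdef
  let N : X → Set X := fun x => {y | R x y}
  have hiff : ∀ (g : Γ) x y, R (g • x) y ↔ R x (g⁻¹ • y) := fun g x y =>
    ⟨fun h => by simpa using hinv g⁻¹ _ _ h, fun h => by simpa using hinv g _ _ h⟩
  have hNimg : ∀ (g : Γ) x, N (g • x) = (fun y => g • y) '' N x := fun g x => by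
    ext y
    simp only [N, Set.mem_ofPred_eq, Set.mem_image]
    exact ⟨fun h => ⟨_, (hiff g x y).mp h, smul_inv_smul g y⟩, by rintro ⟨z, hz, rfl⟩; exact hinv g _ _ hz⟩
  have hclosed : ∀ x ∈ B, insert x (N x) = B := by
    rintro x (rfl | hx)
    · rfl
    refine Set.eq_of_subset_of_ncard_le (Set.insert_subset (Or.inr hx) fun y hy => ?_) ?_ (Set.toFinite _)
    · rcases hB x hx y hy with h | h
      · exact Or.inl h
      · exact Or.inr h
    · obtain ⟨g, rfl⟩ := exists_smul_eq Γ b x
      rw [Set.ncard_insert_of_notMem (show g • b ∉ N (g • b) from hirr _) (Set.toFinite _), hNimg,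
        Set.ncard_image_of_injective _ (MulAction.injective g)]
      exact Set.ncard_insert_le _ _
  have hblock : IsBlock Γ B := by
    rw [isBlock_iff_smul_eq_or_disjoint]
    intro g
    refine or_iff_not_imp_right.mpr fun hnd => ?_
    obtain ⟨z, ⟨u, hu, rfl⟩, hz⟩ := Set.not_disjoint_iff.mp hnd
    rw [← hclosed u hu]
    show (fun y => g • y) '' insert u (N u) = _
    rw [Set.image_insert_eq, ← hNimg, hclosed (g • u) hz, hclosed u hu]
  obtain ⟨x0, hx0⟩ := h0
  obtain ⟨y, hyb, hy⟩ := h1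
  rcases IsPreprimitive.isTrivialBlock_of_isBlock hblock with h | h
  · exact hirr b (by simpa [show x0 = b from h (Or.inr hx0) (Or.inl rfl)] using hx0)
  · rcases (h ▸ Set.mem_univ y : y ∈ B) with h' | h'
    · exact hyb h'
    · exact hy h'

variable {G Ω : Type*} [Group G] [MulAction G Ω] [Finite Ω]

/-- `(x, y)` is the image of `(β, c)` under the stabiliser of `α`. -/
def Orbital (G : Type*) {Ω : Type*} [Group G] [MulAction G Ω] (α β c x y : Ω) : Prop :=
  ∃ g ∈ stabilizer G α, g • β = x ∧ g • c = y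

theorem Orbital.smul {α β c x y : Ω} {g : G} (hg : g • α = α) (h : Orbital G α β c x y) :
    Orbital G α β c (g • x) (g • y) := by
  obtain ⟨k, hk, rfl, rfl⟩ := h
  exact ⟨g * k, mul_mem (mem_stabilizer_iff.mpr hg) hk, mul_smul _ _ _, mul_smul _ _ _⟩

theorem orbital_left_iff {α β c y : Ω} :
    Orbital G α β c β y ↔ y ∈ orbit ↥(stabilizer G α ⊓ stabilizer G β) c :=
  ⟨fun ⟨g, hg, hb, hc⟩ => ⟨⟨g, hg, hb⟩, hc⟩, fun ⟨⟨g, hga, hgb⟩, hc⟩ => ⟨g, hga, hgb, hc⟩⟩

/-- Self-paired: the two suborbits have different lengths. -/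
theorem orbital_symm (h2 : ∀ x y : Ω, x ≠ y → ∀ z w : Ω, z ≠ w → ∃ g : G, g • x = z ∧ g • y = w)
    {α β c d : Ω} (hab : α ≠ β) (hca : c ≠ α) (hcb : c ≠ β)
    (hcover : ∀ z, z = α ∨ z = β ∨ z ∈ orbit ↥(stabilizer G α ⊓ stabilizer G β) c ∨
      z ∈ orbit ↥(stabilizer G α ⊓ stabilizer G β) d)
    (hkl : (orbit ↥(stabilizer G α ⊓ stabilizer G β) c).ncard ≠
      (orbit ↥(stabilizer G α ⊓ stabilizer G β) d).ncard)
    {x y : Ω} (hxy : Orbital G α β c x y) : Orbital G α β c y x := by
  classical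
  have := Fintype.ofFinite Ω
  set M := stabilizer G α ⊓ stabilizer G β
  have hne : ∀ {u v}, Orbital G α β c u v → u ≠ α ∧ v ≠ α ∧ u ≠ v := by
    rintro u v ⟨g, hg, rfl, rfl⟩
    refine ⟨fun e => hab ?_, fun e => hca ?_, fun e => hcb (smul_left_cancel g e).symm⟩
    · exact (smul_left_cancel g (e.trans (mem_stabilizer_iff.mp hg).symm)).symm
    · exact smul_left_cancel g (e.trans (mem_stabilizer_iff.mp hg).symm)
  have hiff : ∀ (g : G), g • α = α → ∀ u v, Orbital G α β c (g • u) (g • v) ↔ Orbital G α β c u v :=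
    fun g hg u v => ⟨fun h => by
      simpa using h.smul (g := g⁻¹) (inv_smul_eq_iff.mpr hg.symm), fun h => h.smul hg⟩
  set s := Finset.univ.filter (fun z : Ω => z ≠ α)
  let out : Ω → ℕ := fun u => {v | Orbital G α β c u v}.ncard
  let inn : Ω → ℕ := fun v => {u | Orbital G α β c u v}.ncard
  have hconst : ∀ u ∈ s, out u = out β ∧ inn u = inn β := by
    intro u hu
    obtain ⟨g, hga, hgb⟩ := h2 α β hab α u (fun e => (Finset.mem_filter.mp hu).2 e.symm)
    subst hgb
    constructor
    · show {v | Orbital G α β c (g • β) v}.ncard = {v | Orbital G α β c β v}.ncard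
      rw [← Set.ncard_image_of_injective {v | Orbital G α β c β v} (MulAction.injective g)]
      congr 1
      ext v
      refine ⟨fun h => ⟨g⁻¹ • v, (hiff g hga _ _).mp (by simpa using h), smul_inv_smul g v⟩, ?_⟩
      rintro ⟨w, hw, rfl⟩
      exact (hiff g hga _ _).mpr hw
    · show {v | Orbital G α β c v (g • β)}.ncard = {v | Orbital G α β c v β}.ncard
      rw [← Set.ncard_image_of_injective {v | Orbital G α β c v β} (MulAction.injective g)]
      congr 1
      ext v
      refine ⟨fun h => ⟨g⁻¹ • v, (hiff g hga _ _).mp (by simpa using h), smul_inv_smul g v⟩, ?_⟩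
      rintro ⟨w, hw, rfl⟩
      exact (hiff g hga _ _).mpr hw
  have habove : ∀ u, (Finset.bipartiteAbove (Orbital G α β c) s u).card = out u := fun u => by
    rw [← Set.ncard_coe_finset]
    congr 1
    ext v
    simp only [Finset.coe_bipartiteAbove, Set.mem_ofPred_eq, s, Finset.mem_filter, Finset.mem_univ, true_and]
    exact ⟨fun h => h.2, fun h => ⟨(hne h).2.1, h⟩⟩
  have hbelow : ∀ v, (Finset.bipartiteBelow (Orbital G α β c) s v).card = inn v := fun v => by
    rw [← Set.ncard_coe_finset]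
    congr 1
    ext u
    simp only [Finset.coe_bipartiteBelow, Set.mem_ofPred_eq, s, Finset.mem_filter, Finset.mem_univ, true_and]
    exact ⟨fun h => h.2, fun h => ⟨(hne h).1, h⟩⟩
  have hdc := Finset.sum_card_bipartiteAbove_eq_sum_card_bipartiteBelow (s := s) (t := s)
    (Orbital G α β c)
  simp only [habove, hbelow] at hdc
  rw [Finset.sum_congr rfl (fun u hu => (hconst u hu).1),
    Finset.sum_congr rfl (fun u hu => (hconst u hu).2), Finset.sum_const, Finset.sum_const,
    smul_eq_mul, smul_eq_mul] at hdc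
  have hk : out β = inn β := Nat.eq_of_mul_eq_mul_left
    (Finset.card_pos.mpr ⟨β, by simp [s, hab.symm]⟩) hdc
  -- the in-neighbours of `β` form a union of suborbits
  set K := orbit M c
  set L := orbit M d
  have hout : {v | Orbital G α β c β v} = K := Set.ext fun v => orbital_left_iff
  set I := {u | Orbital G α β c u β}
  have hIinv : ∀ u ∈ I, orbit M u ⊆ I := by
    rintro u hu _ ⟨m, rfl⟩
    have := hu.smul (g := (m : G)) m.2.1
    rwa [show (m : G) • β = β from m.2.2] at this
  have hIK : I = K := by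
    have hsub : I ⊆ K ∪ L := fun u hu => by
      rcases hcover u with rfl | rfl | h | h
      · exact absurd rfl (hne hu).1
      · exact absurd rfl (hne hu).2.2
      · exact Or.inl h
      · exact Or.inr h
    have hcard : I.ncard = K.ncard := by rw [← hout]; exact hk.symm
    by_cases hc : c ∈ I
    · exact (Set.eq_of_subset_of_ncard_le (hIinv c hc) hcard.le (Set.toFinite _)).symm
    exfalso
    have hsub2 : I ⊆ L := fun u hu => (hsub hu).resolve_left fun h => hc (by
      have := hIinv u hu (mem_orbit_symm.mp h)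
      exact this)
    have hIne : I.Nonempty := Set.nonempty_of_ncard_ne_zero (by
      rw [hcard]; exact (Set.ncard_pos (Set.toFinite _)).mpr ⟨c, mem_orbit_self c⟩ |>.ne')
    obtain ⟨u, hu⟩ := hIne
    have hL : L ⊆ I := by
      rw [show L = orbit M u from (orbit_eq_iff.mpr (hsub2 hu)).symm]
      exact hIinv u hu
    exact hkl (by rw [← hcard, Set.Subset.antisymm hsub2 hL])
  obtain ⟨g, hg, rfl, rfl⟩ := hxy
  refine (hiff g hg _ _).mpr ?_
  show c ∈ I
  rw [hIK]
  exact mem_orbit_self c

/-- No rank three primitive one-point stabiliser with coprime suborbit lengths. -/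
theorem false_of_two_suborbits (h2 : ∀ x y : Ω, x ≠ y → ∀ z w : Ω, z ≠ w → ∃ g : G, g • x = z ∧ g • y = w)
    {α β c d : Ω} (hab : α ≠ β) (hca : c ≠ α) (hcb : c ≠ β) (hda : d ≠ α) (hdb : d ≠ β)
    (hprim : IsPreprimitive ↥(stabilizer G α) ↥(SubMulAction.ofStabilizer G α))
    (hcd : d ∉ orbit ↥(stabilizer G α ⊓ stabilizer G β) c)
    (hcover : ∀ z, z = α ∨ z = β ∨ z ∈ orbit ↥(stabilizer G α ⊓ stabilizer G β) c ∨
      z ∈ orbit ↥(stabilizer G α ⊓ stabilizer G β) d)
    (hkl : (orbit ↥(stabilizer G α ⊓ stabilizer G β) c).ncard ≠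
      (orbit ↥(stabilizer G α ⊓ stabilizer G β) d).ncard)
    (hco : Nat.Coprime (orbit ↥(stabilizer G α ⊓ stabilizer G β) c).ncard
      (orbit ↥(stabilizer G α ⊓ stabilizer G β) d).ncard) : False := by
  classical
  set M := stabilizer G α ⊓ stabilizer G β
  set K := orbit M c
  set L := orbit M d
  have hdisj : ∀ z, z ∈ K → z ∉ L := fun z hzK hzL => hcd <| by
    have h1 : orbit M z = K := orbit_eq_iff.mpr hzK
    have h2 : orbit M z = L := orbit_eq_iff.mpr hzL
    show d ∈ K
    rw [← h1, h2]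
    exact mem_orbit_self d
  have hfull : orbit M (c, d) = K ×ˢ L := by
    have hsub : orbit M (c, d) ⊆ K ×ˢ L := by
      rintro _ ⟨m, rfl⟩
      exact ⟨⟨m, rfl⟩, ⟨m, rfl⟩⟩
    refine Set.eq_of_subset_of_ncard_le hsub ?_ (Set.toFinite _)
    rw [Set.ncard_prod]
    refine Nat.le_of_dvd ((Set.ncard_pos (Set.toFinite _)).mpr ⟨_, mem_orbit_self _⟩) ?_
    have hle : ∀ z : Ω, stabilizer M (c, d) ≤ stabilizer M z →
        (orbit M z).ncard ∣ (orbit M (c, d)).ncard := fun z h => by
      rw [← index_stabilizer, ← index_stabilizer]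
      exact Subgroup.index_dvd_of_le h
    refine hco.mul_dvd_of_dvd_of_dvd (hle c fun m hm => ?_) (hle d fun m hm => ?_)
    · exact congrArg Prod.fst (mem_stabilizer_iff.mp hm)
    · exact congrArg Prod.snd (mem_stabilizer_iff.mp hm)
  have hunif : ∀ x ∈ K, ∀ y ∈ L, ∀ u ∈ K, ∀ v ∈ L,
      Orbital G α β c x y → Orbital G α β c u v := by
    intro x hx y hy u hu v hv h
    have h1 : (x, y) ∈ orbit M (c, d) := hfull ▸ ⟨hx, hy⟩
    have h2' : (u, v) ∈ orbit M (x, y) := by
      rw [orbit_eq_iff.mpr h1, hfull]; exact ⟨hu, hv⟩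
    obtain ⟨m, hm⟩ := h2'
    have := h.smul (g := (m : G)) m.2.1
    rw [show (m : G) • x = u from congrArg Prod.fst hm,
      show (m : G) • y = v from congrArg Prod.snd hm] at this
    exact this
  -- run the clique criterion for either suborbit
  let β' : SubMulAction.ofStabilizer G α := ⟨β, hab.symm⟩
  have key : ∀ a b' : Ω, a ≠ α → a ≠ β → b' ≠ α → b' ≠ β →
      b' ∉ orbit M a → (∀ z, z = α ∨ z = β ∨ z ∈ orbit M a ∨ z ∈ orbit M b') →
      (∀ x ∈ orbit M a, ∀ y ∈ orbit M b', ¬ Orbital G α β a x y) → False := by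
    intro a b' haa hab' hb'a hb'b hout hcov hno
    refine false_of_clique (Γ := stabilizer G α) (X := SubMulAction.ofStabilizer G α)
      (fun u v => Orbital G α β a u v) (fun g u v h => h.smul g.2) ?_ β' ?_
      ⟨⟨a, haa⟩, orbital_left_iff.mpr (mem_orbit_self a)⟩
      ⟨⟨b', hb'a⟩, fun e => hb'b (congrArg Subtype.val e), fun h => hout (orbital_left_iff.mp h)⟩
    · rintro u ⟨g, -, h1, h2⟩
      exact hab' (smul_left_cancel g (h2.trans h1.symm))
    · intro u hu v huv
      rcases hcov v.1 with h | h | h | h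
      · exact absurd h v.2
      · exact Or.inl (Subtype.ext h)
      · exact Or.inr (orbital_left_iff.mpr h)
      · exact absurd huv (hno _ (orbital_left_iff.mp hu) _ h)
  by_cases hall : Orbital G α β c c d
  · refine key d c hda hdb hca hcb (fun h => hcd (mem_orbit_symm.mp h))
      (fun z => by rcases hcover z with h | h | h | h <;> tauto) fun x hx y hy h => ?_
    have h1 : Orbital G α β c x y := orbital_symm h2 hab hca hcb hcover hkl
      (hunif c (mem_orbit_self c) d (mem_orbit_self d) y hy x hx hall)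
    obtain ⟨g, hg, hgx, hgy⟩ := h
    obtain ⟨k, hk, hkx, hky⟩ := h1
    refine hcd ⟨⟨g⁻¹ * k, (stabilizer G α).mul_mem ((stabilizer G α).inv_mem hg) hk, ?_⟩, ?_⟩
    · show (g⁻¹ * k) • β = β
      rw [mul_smul, hkx, ← hgx, inv_smul_smul]
    · show (g⁻¹ * k) • c = d
      rw [mul_smul, hky, ← hgy, inv_smul_smul]
  · exact key c d hca hcb hda hdb hcd hcover fun x hx y hy h =>
      hall (hunif x hx y hy c (mem_orbit_self c) d (mem_orbit_self d) h)

end Cfsg.Agent.Lib.PrimeHalfTwin
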